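import Groth.Agent.RatRes42.Quadratic
import Groth.Agent.S0555
import Groth.Agent.S4433
import Mathlib.RingTheory.Ideal.KrullsHeightTheorem

/-!
# Rational curves in the blow-up of a primary ideal of a two-dimensional point

For a chart `B = A[a_i / a_{i₀}]` of the blow-up of an `m`-primary ideal and a rational point `Q` of
`B` over the closed point there is a rational curve over the closed point through `Q`.
-/

set_option autoImplicit false

universe u

open IsLocalRing

namespace Groth.Agent.RatRes42

variable {k : Type u} [Field k] [IsAlgClosed k]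
variable {A : Type u} [CommRing A] [IsDomain A] [IsLocalRing A] [Algebra k A]
variable {K : Type u} [Field K] [Algebra A K] [IsFractionRing A K] [Algebra k K] [IsScalarTower k A K]

theorem exists_const_of_isAlgebraic {D : Type*} [CommRing D] [IsDomain D] [Algebra k D] {z : D}
    (h : IsAlgebraic k z) : ∃ c : k, algebraMap k D c = z :=
  minpoly.mem_range_of_degree_eq_one k z
    (IsAlgClosed.degree_eq_one_of_irreducible k (minpoly.irreducible h.isIntegral))

omit [Algebra k A] in
/-- The dimension formula for birational extensions with trivial residue extension. -/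
theorem height_eq_of_birational (hA : CAlg.IsUniversallyCatenary A) (K : Type u) [Field K]
    [Algebra A K] [IsFractionRing A K] (B : Type u) [CommRing B] [IsDomain B] [Algebra A B]
    [Algebra.FiniteType A B] (i : B →ₐ[A] K) (hi : Function.Injective i) (P : Ideal B) [P.IsPrime]
    (hP : P.comap (algebraMap A B) = maximalIdeal A) (hres : ∀ b : B, ∃ a, b - algebraMap A B a ∈ P) :
    P.height = (maximalIdeal A).height := by
  haveI : FaithfulSMul A B := (faithfulSMul_iff_algebraMap_injective A B).mpr fun x y h =>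
    IsFractionRing.injective A K (by rw [← i.commutes x, h, i.commutes])
  haveI : P.LiesOver (maximalIdeal A) := ⟨hP.symm⟩
  haveI : Algebra.IsAlgebraic A B := by
    haveI : Algebra.IsAlgebraic A K := IsLocalization.isAlgebraic K (nonZeroDivisors A)
    exact Algebra.IsAlgebraic.of_injective i hi
  haveI : Algebra.IsAlgebraic (A ⧸ maximalIdeal A) (B ⧸ P) := ⟨fun z => by
    obtain ⟨b, rfl⟩ := Ideal.Quotient.mk_surjective z
    obtain ⟨a, ha⟩ := hres b
    have e : Ideal.Quotient.mk P b = algebraMap (A ⧸ maximalIdeal A) (B ⧸ P) (Ideal.Quotient.mk _ a) :=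
      Ideal.Quotient.eq.mpr ha
    rw [e]
    exact isAlgebraic_algebraMap _⟩
  have h := Groth.Agent.S0555.result A hA B (maximalIdeal A) P
  rw [trdeg_eq_zero (R := A) (A := B), trdeg_eq_zero (R := A ⧸ maximalIdeal A) (A := B ⧸ P), add_zero, add_zero] at h
  exact_mod_cast h

variable {ι : Type} [Fintype ι]

/-- The chart `A[a_i / a_{i₀}]`. -/
noncomputable def chartAlg (K : Type u) [Field K] [Algebra A K] (a : ι → A) (i₀ : ι) : Subalgebra A K :=
  Algebra.adjoin A (Set.range fun i => algebraMap A K (a i) / algebraMap A K (a i₀))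

/-- The coordinates on the chart. -/
noncomputable def chartCoord (K : Type u) [Field K] [Algebra A K] (a : ι → A) (i₀ i : ι) : chartAlg K a i₀ :=
  ⟨algebraMap A K (a i) / algebraMap A K (a i₀), Algebra.subset_adjoin ⟨i, rfl⟩⟩

theorem exists_ratFunc_point (hcat : CAlg.IsUniversallyCatenary A) {x y : A}
    (hxy : maximalIdeal A = Ideal.span {x, y}) (hres : ∀ a : A, ∃ c : k, a - algebraMap k A c ∈ maximalIdeal A)
    (hdim : (2 : ℕ∞) ≤ (maximalIdeal A).height) (a : ι → A) (i₀ : ι) (h0 : a i₀ ≠ 0)
    (ha : a i₀ ∈ maximalIdeal A) {r : ℕ} (hr : maximalIdeal A ^ r ≤ Ideal.span (Set.range a))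
    (Q : Ideal (chartAlg K a i₀)) [Q.IsPrime] (hQm : Q.comap (algebraMap A _) = maximalIdeal A)
    (hQ : ∀ b, ∃ c : k, b - algebraMap A (chartAlg K a i₀) (algebraMap k A c) ∈ Q) :
    ∃ ψ : chartAlg K a i₀ →+* RatFunc k,
      (∀ c : k, ψ (algebraMap A _ (algebraMap k A c)) = algebraMap k (RatFunc k) c) ∧
      (∀ z ∈ maximalIdeal A, ψ (algebraMap A _ z) = 0) ∧
      RingHom.ker ψ ≤ Q ∧
      ∃ i, ∀ c : k, ψ (chartCoord K a i₀ i) ≠ algebraMap k (RatFunc k) c := by
  classical
  haveI : IsNoetherianRing A := hcat.1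
  let B := chartAlg K a i₀
  haveI : Algebra.FiniteType A B := (Subalgebra.fg_iff_finiteType _).1
    ⟨(Finset.univ : Finset ι).image fun i => algebraMap A K (a i) / algebraMap A K (a i₀), by
      simp [B, chartAlg]⟩
  haveI : IsNoetherianRing B := Algebra.FiniteType.isNoetherianRing A B
  let b₀ : B := algebraMap A B (a i₀)
  have hK0 : algebraMap A K (a i₀) ≠ 0 := (map_ne_zero_iff _ (IsFractionRing.injective A K)).2 h0
  have hmul : ∀ i, algebraMap A B (a i) = chartCoord K a i₀ i * b₀ := fun i => Subtype.ext (by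
    show algebraMap A K (a i) = algebraMap A K (a i) / algebraMap A K (a i₀) * algebraMap A K (a i₀)
    rw [div_mul_cancel₀ _ hK0])
  have hb₀Q : b₀ ∈ Q := by
    show a i₀ ∈ Q.comap (algebraMap A B)
    rw [hQm]
    exact ha
  obtain ⟨P, hP, hPQ⟩ := Ideal.exists_minimalPrimes_le (I := Ideal.span {b₀}) (J := Q)
    ((Ideal.span_singleton_le_iff_mem _).2 hb₀Q)
  haveI := hP.isPrime
  have hPm : ∀ z ∈ maximalIdeal A, algebraMap A B z ∈ P := fun z hz => by
    have h1 : z ^ r ∈ Ideal.span (Set.range a) := hr (Ideal.pow_mem_pow hz r)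
    have h2 : algebraMap A B (z ^ r) ∈ P := by
      refine (Ideal.map_le_iff_le_comap.1 ?_) h1
      rw [Ideal.map_span, Ideal.span_le]
      rintro _ ⟨_, ⟨i, rfl⟩, rfl⟩
      rw [hmul i]
      exact P.mul_mem_left _ (hP.le (Ideal.mem_span_singleton_self _))
    rw [map_pow] at h2
    exact hP.isPrime.mem_of_pow_mem r h2
  have hPne : P ≠ Q := fun hPeq => by
    have h1 : P.height ≤ 1 := by
      have := Ideal.height_le_card_of_mem_minimalPrimes_span_finset (s := {b₀}) (p := P) (by simpa using hP)
      simpa using this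
    have h2 : Q.height = (maximalIdeal A).height :=
      height_eq_of_birational hcat K B B.val Subtype.val_injective Q hQm fun b =>
        let ⟨c, hc⟩ := hQ b; ⟨algebraMap k A c, hc⟩
    rw [hPeq, h2] at h1
    exact absurd (hdim.trans h1) (by decide)
  -- a coordinate is not constant modulo `P`
  obtain ⟨i, hi⟩ : ∃ i, ∀ c : k, chartCoord K a i₀ i - algebraMap A B (algebraMap k A c) ∉ P := by
    by_contra! hcon
    refine hPne (le_antisymm hPQ fun b hb => ?_)
    have hconst : ∀ b : B, ∃ c : k, b - algebraMap A B (algebraMap k A c) ∈ P := by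
      rintro ⟨z, hz⟩
      induction hz using Algebra.adjoin_induction with
      | mem z hz =>
        obtain ⟨j, rfl⟩ := hz
        exact hcon j
      | algebraMap z =>
        obtain ⟨c, hc⟩ := hres z
        refine ⟨c, ?_⟩
        have := hPm _ hc
        rwa [map_sub] at this
      | add z w hz' hw' h h' =>
        obtain ⟨c, hc⟩ := h; obtain ⟨d, hd⟩ := h'
        refine ⟨c + d, ?_⟩
        have := P.add_mem hc hd
        rw [sub_add_sub_comm, ← map_add, ← map_add] at this
        exact this
      | mul z w hz' hw' h h' =>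
        obtain ⟨c, hc⟩ := h; obtain ⟨d, hd⟩ := h'
        refine ⟨c * d, ?_⟩
        have := P.add_mem (P.mul_mem_right ⟨w, hw'⟩ hc) (P.mul_mem_left (algebraMap A B (algebraMap k A c)) hd)
        rw [sub_mul, mul_sub, sub_add_sub_cancel, ← map_mul, ← map_mul] at this
        exact this
    obtain ⟨c, hc⟩ := hconst b
    have hcQ : algebraMap A B (algebraMap k A c) ∈ Q := by
      simpa using Q.sub_mem hb (hPQ hc)
    by_cases h : c = 0
    · simpa [h] using hc
    · exact absurd (Ideal.eq_top_of_isUnit_mem _ hcQ (((Ne.isUnit h).map _).map _)) ‹Q.IsPrime›.ne_top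
  -- a discrete valuation ring centred at `P`
  let BP := Localization.AtPrime P
  haveI : IsFractionRing B K := IsFractionRing.of_field B K fun z => by
    obtain ⟨p, q, -, hq⟩ := IsFractionRing.div_surjective A (K := K) z
    exact ⟨algebraMap A B p, algebraMap A B q, hq.symm⟩
  letI : Algebra BP K := (IsLocalization.lift (M := P.primeCompl) (g := algebraMap B K) fun s =>
    Ne.isUnit ((map_ne_zero_iff _ (IsFractionRing.injective B K)).2 fun h => s.2 (h ▸ P.zero_mem))).toAlgebra
  haveI : IsScalarTower B BP K := IsScalarTower.of_algebraMap_eq fun b => (IsLocalization.lift_eq _ b).symm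
  haveI : IsDomain BP := IsLocalization.isDomain_localization P.primeCompl_le_nonZeroDivisors
  haveI : IsFractionRing BP K := IsFractionRing.isFractionRing_of_isDomain_of_isLocalization P.primeCompl BP K
  haveI : IsNoetherianRing BP := IsLocalization.isNoetherianRing P.primeCompl _ inferInstance
  have hBP : ¬ IsField BP := fun hF => by
    have h1 : algebraMap B BP b₀ ∈ maximalIdeal BP :=
      (IsLocalization.AtPrime.to_map_mem_maximal_iff BP P b₀).2 (hP.le (Ideal.mem_span_singleton_self _))
    rw [IsLocalRing.isField_iff_maximalIdeal_eq.1 hF, Ideal.mem_bot] at h1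
    have h2 := congrArg (algebraMap BP K) h1
    rw [← IsScalarTower.algebraMap_apply, map_zero] at h2
    exact hK0 h2
  obtain ⟨R, hR, hRmem, hRlt⟩ := S4433.result BP hBP K K
    (IntermediateField.fg_def.mpr ⟨∅, Set.finite_empty, Subsingleton.elim _ _⟩)
  haveI := hR
  have hBR : ∀ b : B, (b : K) ∈ R := fun b => by
    have := hRmem (algebraMap B BP b)
    rwa [← IsScalarTower.algebraMap_apply] at this
  let incl : B →+* R := (B.val.toRingHom).codRestrict R.toSubring hBR
  letI : Algebra k R := (incl.comp ((algebraMap A B).comp (algebraMap k A))).toAlgebra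
  have hnon : ∀ b : B, ¬IsUnit (incl b) ↔ b ∈ P := fun b => by
    constructor
    · intro hb
      by_contra hbP
      refine hb ?_
      obtain ⟨u, hu⟩ := IsLocalization.map_units BP (⟨b, hbP⟩ : P.primeCompl)
      refine IsUnit.of_mul_eq_one ⟨_, hRmem ((u⁻¹ : BPˣ) : BP)⟩ (Subtype.ext ?_)
      show (b : K) * algebraMap BP K ((u⁻¹ : BPˣ) : BP) = 1
      rw [show (b : K) = algebraMap BP K (algebraMap B BP b) from IsScalarTower.algebraMap_apply B BP K b,
        ← map_mul, ← hu, Units.mul_inv, map_one]
    · intro hb hu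
      have h1 := hRlt _ ((IsLocalization.AtPrime.to_map_mem_maximal_iff BP P b).2 hb)
      rw [← IsScalarTower.algebraMap_apply] at h1
      exact ((R.valuation_lt_one_iff (incl b)).2 h1 : _) hu
  let φ : A →ₐ[k] R := { incl.comp (algebraMap A B) with commutes' := fun c => rfl }
  have hφu : ∀ z : A, ¬IsUnit (φ z) ↔ z ∈ maximalIdeal A := fun z => by
    refine (hnon _).trans ⟨fun h => ?_, hPm z⟩
    rw [← hQm]
    exact hPQ h
  have hpt : IsPoint φ.range := by
    refine ⟨?_, ⟨φ x, φ y, ⟨x, rfl⟩, ⟨y, rfl⟩, ?_, ?_, ?_⟩, ?_, ?_⟩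
    · rintro _ ⟨z, rfl⟩ hz
      have : IsUnit z := by
        by_contra h
        exact (hφu z).2 h hz
      obtain ⟨w, hw⟩ := this.exists_right_inv
      exact ⟨φ w, ⟨w, rfl⟩, by
        show φ z * φ w = 1
        rw [← map_mul, hw, map_one]⟩
    · exact (hφu x).2 (hxy ▸ Ideal.subset_span (Set.mem_insert _ _))
    · exact (hφu y).2 (hxy ▸ Ideal.subset_span (Set.mem_insert_of_mem _ rfl))
    · rintro _ ⟨z, rfl⟩ hz
      have := (hφu z).1 hz
      rw [hxy, Ideal.mem_span_pair] at this
      obtain ⟨p, q, rfl⟩ := this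
      exact ⟨φ p, φ q, ⟨p, rfl⟩, ⟨q, rfl⟩, by simp⟩
    · rintro _ ⟨z, rfl⟩
      obtain ⟨c, hc⟩ := hres z
      refine ⟨c, ?_⟩
      have := (hφu _).2 hc
      rwa [map_sub, AlgHom.commutes] at this
    · intro z
      obtain ⟨p, q, hq0, hz⟩ := IsFractionRing.div_surjective A (K := K) (z : K)
      refine ⟨φ p, φ q, ⟨p, rfl⟩, ⟨q, rfl⟩, ?_, Subtype.ext ?_⟩
      · intro h
        have h' : algebraMap A K q = 0 := congrArg Subtype.val h
        exact nonZeroDivisors.ne_zero hq0 (IsFractionRing.injective A K (h'.trans (map_zero _).symm))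
      · show (z : K) * algebraMap A K q = algebraMap A K p
        rw [← hz, div_mul_cancel₀ _ ((map_ne_zero_iff _ (IsFractionRing.injective A K)).2 (nonZeroDivisors.ne_zero hq0))]
  let t : R := incl (chartCoord K a i₀ i)
  have htr : Transcendental k (residue R t) := fun halg => by
    obtain ⟨c, hc⟩ := exists_const_of_isAlgebraic halg
    refine hi c ((hnon _).1 ?_)
    rw [not_isUnit_iff_residue, map_sub, map_sub, sub_eq_zero, ← show residue R t = _ from rfl, ← hc]
    rfl
  obtain ⟨e⟩ := nonempty_residue_hom_ratFunc hpt t htr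
  refine ⟨e.toRingHom.comp ((residue R).comp incl), fun c => ?_, fun z hz => ?_, fun b hb => ?_, i, fun c hc => ?_⟩
  · exact e.commutes c
  · show e (residue R (incl (algebraMap A B z))) = 0
    rw [(not_isUnit_iff_residue _).1 ((hnon _).2 (hPm z hz)), map_zero]
  · refine hPQ ((hnon b).1 ?_)
    rw [not_isUnit_iff_residue]
    exact (map_eq_zero_iff e.toRingHom e.toRingHom.injective).1 hb
  · refine htr ?_
    have : residue R t = algebraMap k _ c := e.toRingHom.injective (hc.trans (e.commutes c).symm)
    rw [this]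
    exact isAlgebraic_algebraMap c

end Groth.Agent.RatRes42
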