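import Groth.Agent.ZetaLib.ProjPoints

/-!
# Homogeneous coordinates of field-valued points
-/

set_option autoImplicit false

universe u

open CategoryTheory AlgebraicGeometry
open HomogeneousLocalization (Away)

namespace Groth.Agent.RatRes42

open Groth.Agent.ZetaLib

variable {n : ℕ} {k : Type u} [Field k] {K : Type u} [Field K] [Algebra k K]

local notation "𝒜" => CohB1.polyGrading n k
local notation "T" => (MvPolynomial.X : Fin (n + 1) → MvPolynomial (Fin (n + 1)) k)

theorem coord_self' (i : Fin (n + 1)) : coord n k i i = 1 := by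
  refine HomogeneousLocalization.val_injective _ ?_
  rw [coord, HomogeneousLocalization.Away.val_mk, HomogeneousLocalization.val_one,
    ← Localization.mk_self (⟨T i ^ 1, 1, rfl⟩ : Submonoid.powers (T i))]
  simp only [pow_one]

/-- A point over `k` in a chart has coordinates. -/
theorem exists_pointAt (g : Spec (CommRingCat.of K) ⟶ CohB1.ProjSpace n k)
    (hg : g ≫ CohB1.ProjSpace.toSpec n k = Spec.map (CommRingCat.ofHom (algebraMap k K)))
    (i : Fin (n + 1)) (hi : g (IsLocalRing.closedPoint K) ∈ Set.range (chart n k i)) :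
    ∃ (v : Fin (n + 1) → K) (hv : v i = 1), pointAt i v hv = g := by
  have hsub : Set.range g ⊆ Set.range (chart n k i) := by
    rintro _ ⟨y, rfl⟩
    obtain rfl : y = IsLocalRing.closedPoint K := Subsingleton.elim _ _
    exact hi
  obtain ⟨φ, hφ⟩ : ∃ φ : Away 𝒜 (T i) →+* K, Spec.map (CommRingCat.ofHom φ) ≫ chart n k i = g :=
    ⟨(Spec.preimage (IsOpenImmersion.lift (chart n k i) g hsub)).hom, by
      rw [CommRingCat.ofHom_hom, Spec.map_preimage, IsOpenImmersion.lift_fac]⟩
  have hb : φ.comp (base n k i) = algebraMap k K := by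
    rw [← hφ, Category.assoc, chart_toSpec, ← Spec.map_comp, Spec.map_inj, ← CommRingCat.ofHom_comp] at hg
    exact congrArg CommRingCat.Hom.hom hg
  refine ⟨fun l => φ (coord n k i l), (congrArg φ (coord_self' i)).trans (map_one φ), ?_⟩
  rw [pointAt, ringHom_eq_iff i (ψ := φ) (by rw [evalAt_base, hb]) fun l => evalAt_coord i _ _ l, hφ]

theorem val_awayMap_coord (a b l : Fin (n + 1)) {x : MvPolynomial (Fin (n + 1)) k} (hx : x = T a * T b) :
    (HomogeneousLocalization.awayMap 𝒜 (X_mem_one n k b) hx (coord n k a l)).val *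
        algebraMap (MvPolynomial (Fin (n + 1)) k) (Localization (Submonoid.powers x)) (T a) =
      algebraMap _ _ (T l) := by
  rw [HomogeneousLocalization.val_awayMap]
  set L := Localization.awayLift (algebraMap (MvPolynomial (Fin (n + 1)) k) (Localization (Submonoid.powers x))) (T a)
    (isUnit_of_dvd_unit (map_dvd _ ⟨_, hx⟩) (IsLocalization.Away.algebraMap_isUnit x)) with hL
  have e : ∀ y, L (algebraMap _ _ y) = algebraMap _ _ y := fun y => IsLocalization.Away.lift_eq (T a) _ y
  rw [← e (T a), ← map_mul, val_coord, e]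

/-- Change of chart. -/
theorem pointAt_change (i j : Fin (n + 1)) (v : Fin (n + 1) → K) (hv : v i = 1) (hj : v j ≠ 0) :
    pointAt (k := k) j (fun l => v l / v j) (div_self hj) = pointAt i v hv := by
  classical
  have hij : T i * T j = T i * T j := rfl
  let ε : Away 𝒜 (T i * T j) →+* K :=
    (IsLocalization.Away.lift (T i * T j) (S := Localization (Submonoid.powers (T i * T j)))
        (g := MvPolynomial.eval₂Hom (algebraMap k K) v)
        (by simp [hv, hj])).comp
      (algebraMap (Away 𝒜 (T i * T j)) (Localization (Submonoid.powers (T i * T j))))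
  let αi := HomogeneousLocalization.awayMap 𝒜 (X_mem_one n k j) (rfl : T i * T j = T i * T j)
  let αj := HomogeneousLocalization.awayMap 𝒜 (X_mem_one n k i) (mul_comm (T i) (T j))
  have key : ∀ (a : Fin (n + 1)) (z : Away 𝒜 (T i * T j)) (l : Fin (n + 1)),
      z.val * algebraMap (MvPolynomial (Fin (n + 1)) k) (Localization (Submonoid.powers (T i * T j))) (T a) =
        algebraMap _ _ (T l) → ε z * v a = v l := fun a z l h => by
    have h' := congrArg (IsLocalization.Away.lift (T i * T j) (S := Localization (Submonoid.powers (T i * T j)))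
        (g := MvPolynomial.eval₂Hom (algebraMap k K) v) (by simp [hv, hj])) h
    simp only [map_mul, IsLocalization.Away.lift_eq, MvPolynomial.eval₂Hom_X'] at h'
    exact h'
  have hbase : ∀ (a : Fin (n + 1)) (α : Away 𝒜 (T a) →+* Away 𝒜 (T i * T j)),
      (∀ z, α (HomogeneousLocalization.fromZeroRingHom 𝒜 _ z) = HomogeneousLocalization.fromZeroRingHom 𝒜 _ z) →
      (ε.comp α).comp (base n k a) = algebraMap k K := fun a α hα => by
    refine RingHom.ext fun c => ?_
    show ε (α (HomogeneousLocalization.fromZeroRingHom 𝒜 _ (algebraMap k (𝒜 0) c))) = _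
    rw [hα]
    have hval : (HomogeneousLocalization.fromZeroRingHom 𝒜 (Submonoid.powers (T i * T j)) (algebraMap k (𝒜 0) c)).val =
        algebraMap (MvPolynomial (Fin (n + 1)) k) _ (MvPolynomial.C c) := by
      show (HomogeneousLocalization.mk _).val = _
      rw [HomogeneousLocalization.val_mk, ← Localization.mk_one_eq_algebraMap]
      rfl
    simp only [ε, RingHom.comp_apply, HomogeneousLocalization.algebraMap_apply, hval,
      IsLocalization.Away.lift_eq, MvPolynomial.eval₂Hom_C]
  have hi' : ε.comp αi = evalAt i v hv := ringHom_eq_iff i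
    (by rw [evalAt_base, hbase i αi fun z => HomogeneousLocalization.awayMap_fromZeroRingHom 𝒜 (X_mem_one n k j) rfl z]) fun l => by
      rw [evalAt_coord]
      have := key i (αi (coord n k i l)) l (val_awayMap_coord i j l rfl)
      rwa [hv, mul_one] at this
  have hj' : ε.comp αj = evalAt j (fun l => v l / v j) (div_self hj) := ringHom_eq_iff j
    (by rw [evalAt_base, hbase j αj fun z => HomogeneousLocalization.awayMap_fromZeroRingHom 𝒜 (X_mem_one n k i) (mul_comm (T i) (T j)) z]) fun l => by
      rw [evalAt_coord]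
      have := key j (αj (coord n k j l)) l (val_awayMap_coord j i l (mul_comm (T i) (T j)))
      rw [eq_div_iff hj]
      exact this
  rw [pointAt, pointAt, ← hi', ← hj', show CommRingCat.ofHom (ε.comp αj) = CommRingCat.ofHom αj ≫ CommRingCat.ofHom ε from rfl,
    show CommRingCat.ofHom (ε.comp αi) = CommRingCat.ofHom αi ≫ CommRingCat.ofHom ε from rfl, Spec.map_comp, Spec.map_comp,
    Category.assoc, Category.assoc]
  refine congrArg (Spec.map (CommRingCat.ofHom ε) ≫ ·) ?_
  exact (Proj.SpecMap_awayMap_awayι 𝒜 (X_mem_one n k j) Nat.one_pos (X_mem_one n k i) (mul_comm (T i) (T j))).trans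
    (Proj.SpecMap_awayMap_awayι 𝒜 (X_mem_one n k i) Nat.one_pos (X_mem_one n k j) rfl).symm

end Groth.Agent.RatRes42
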