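import Groth.Agent.S2345
import Groth.Agent.Eg2Curve.FunctionField
import Groth.Agent.SmoothReg.Scheme
import Groth.Agent.VarDim.Top
import Groth.Agent.H23.RatExtend
import Mathlib.RingTheory.DedekindDomain.Dvr
import Mathlib.FieldTheory.IntermediateField.Adjoin.Algebra

/-!
# The smooth proper model of a curve
-/

set_option autoImplicit false
set_option linter.style.haveILetI false

universe u

open CategoryTheory CategoryTheory.Limits AlgebraicGeometry IsLocalRing TopologicalSpace

namespace Groth.Agent.RatRes42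

attribute [local instance] Curv2.stalkAlgebra

variable (k : Type u) [Field k] (X : Scheme.{u}) [X.Over (Spec (CommRingCat.of k))] [IsIntegral X]
  [LocallyOfFiniteType (X ↘ Spec (CommRingCat.of k))]

theorem trdeg_functionField_of_dim_one (hdim : topologicalKrullDim X = 1) :
    Algebra.trdeg k (X.presheaf.stalk (genericPoint X)) = 1 := by
  have h := VarDim.topologicalKrullDim_eq_deg_genericPoint (X ↘ Spec (CommRingCat.of k))
  rw [hdim] at h
  have h1 : VarDim.deg (X ↘ Spec (CommRingCat.of k)) (genericPoint X) = 1 := by exact_mod_cast h.symm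
  have h2 := VarDim.deg_eq_tdeg (X ↘ Spec (CommRingCat.of k)) (genericPoint X)
  rw [h1, Nat.cast_one] at h2
  letI := Curv2.resAlgebra k X (genericPoint X)
  have hb : Function.Bijective (X.residue (genericPoint X)).hom :=
    ⟨(X.residue (genericPoint X)).hom.injective, X.residue_surjective (genericPoint X)⟩
  let e : X.functionField ≃ₐ[k] X.residueField (genericPoint X) :=
    AlgEquiv.ofRingEquiv (f := RingEquiv.ofBijective _ hb) fun _ => rfl
  have h3 : Algebra.trdeg k (X.residueField (genericPoint X)) = 1 := h2.symm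
  exact e.trdeg_eq.trans h3

theorem essFiniteType_functionField :
    Algebra.EssFiniteType k X.functionField := by
  obtain ⟨U, hU, hηU, -⟩ := Opens.isBasis_iff_nbhd.mp X.isBasis_affineOpens
    (Opens.mem_top (genericPoint X))
  haveI : Nonempty U := ⟨⟨_, hηU⟩⟩
  letI := (SmoothReg.affMap (X ↘ Spec (CommRingCat.of k)) U).toAlgebra
  haveI : Algebra.FiniteType k Γ(X, U) := SmoothReg.finiteType_affMap (X ↘ Spec (CommRingCat.of k)) hU
  haveI := functionField_isFractionRing_of_isAffineOpen X U hU
  haveI : IsScalarTower k Γ(X, U) X.functionField := IsScalarTower.of_algebraMap_eq fun c => by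
    show X.presheaf.germ ⊤ _ _ _ = X.presheaf.germ U _ _ _
    exact (X.presheaf.germ_res_apply (homOfLE (le_top : U ≤ ⊤)) (genericPoint X) hηU _).symm
  haveI : Algebra.EssFiniteType Γ(X, U) X.functionField :=
    .of_isLocalization _ (nonZeroDivisors Γ(X, U))
  exact Algebra.EssFiniteType.comp k Γ(X, U) X.functionField

/-- A normal curve over a perfect field is smooth. -/
theorem smooth_of_normal_curve [PerfectField k] [LocallyOfFinitePresentation (X ↘ Spec (CommRingCat.of k))]
    (hn : Pi1.IsNormalScheme X)
    (h1 : ∀ x : X, IsClosed ({x} : Set X) → ringKrullDim (X.presheaf.stalk x) = 1) :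
    Smooth (X ↘ Spec (CommRingCat.of k)) := by
  haveI : IsLocallyNoetherian X := LocallyOfFiniteType.isLocallyNoetherian (X ↘ Spec (CommRingCat.of k))
  rw [← Scheme.Hom.smoothLocus_eq_top_iff]
  refine top_unique fun x _ => ?_
  obtain ⟨c, hxc, hc⟩ := VarDim.exists_closed_specialization (X ↘ Spec (CommRingCat.of k)) x
  refine hxc.mem_open (X ↘ Spec (CommRingCat.of k)).smoothLocus.2 ?_
  refine (SmoothReg.mem_smoothLocus_iff_isRegularLocalRing (X ↘ Spec (CommRingCat.of k)) c).2 ?_
  haveI := (hn c).1
  haveI := (hn c).2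
  haveI : IsNoetherianRing (X.presheaf.stalk c) := inferInstance
  haveI : Ring.DimensionLEOne (X.presheaf.stalk c) := ⟨fun {P} hP0 hP => by
    have hmax : P = maximalIdeal (X.presheaf.stalk c) := by
      by_contra hne
      haveI := hP
      have h2 := Ideal.height_add_one_le_of_lt_of_isPrime (lt_of_le_of_ne (le_maximalIdeal hP.ne_top) hne)
      have h3 : (1 : ℕ∞) ≤ P.height := by
        have h := Ideal.height_add_one_le_of_lt_of_isPrime (I := (⊥ : Ideal (X.presheaf.stalk c))) (J := P)
          (bot_lt_iff_ne_bot.2 hP0)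
        exact le_trans le_add_self h
      have h4 := IsLocalRing.maximalIdeal_height_eq_ringKrullDim (R := X.presheaf.stalk c)
      rw [h1 c hc] at h4
      have h5 : (maximalIdeal (X.presheaf.stalk c)).height = 1 := WithBot.coe_inj.1 h4
      rw [h5] at h2
      exact absurd ((add_le_add h3 le_rfl).trans h2) (by decide)
    exact hmax ▸ inferInstance⟩
  haveI : IsDedekindDomain (X.presheaf.stalk c) := {}
  have hne : maximalIdeal (X.presheaf.stalk c) ≠ ⊥ := fun h => by
    have h2 := h1 c hc
    rw [ringKrullDim_eq_zero_of_isField (isField_iff_maximalIdeal_eq.2 h)] at h2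
    exact zero_ne_one h2
  haveI : IsDiscreteValuationRing (X.presheaf.stalk c) :=
    ((IsDiscreteValuationRing.TFAE (X.presheaf.stalk c) (fun h => hne (isField_iff_maximalIdeal_eq.1 h))).out 2 0
      (a := IsDedekindDomain (X.presheaf.stalk c)) (b := IsDiscreteValuationRing (X.presheaf.stalk c))).mp
      inferInstance
  haveI : IsPrincipalIdealRing (X.presheaf.stalk c) := IsDiscreteValuationRing.toIsPrincipalIdealRing
  infer_instance

/-- **The smooth proper model of a curve**, with a dominant map from an open part of it. -/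
theorem exists_proper_model [IsAlgClosed k] [X.IsSeparated] (hdim : topologicalKrullDim X = 1) :
    ∃ (Y : Scheme.{u}) (q : Y ⟶ Spec (CommRingCat.of k)) (_ : IsIntegral Y),
      IsProper q ∧ Smooth q ∧ topologicalKrullDim Y = 1 ∧
      ∃ (W : Y.Opens) (u : W.toScheme ⟶ X), genericPoint Y ∈ W ∧ IsDominant u ∧
        u ≫ (X ↘ Spec (CommRingCat.of k)) = W.ι ≫ q := by
  haveI := essFiniteType_functionField k X
  obtain ⟨Y, instY, hY, hq, hn, h1, e, he⟩ := S2345.result k X.functionField
    (IntermediateField.fg_top_iff.2 inferInstance) (trdeg_functionField_of_dim_one k X hdim)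
  let q := Y ↘ Spec (CommRingCat.of k)
  haveI := hq
  haveI : LocallyOfFinitePresentation q := inferInstance
  haveI : Smooth q := smooth_of_normal_curve k Y hn h1
  obtain ⟨c, -, hc⟩ := VarDim.exists_closed_specialization q (genericPoint Y)
  have hdimY : topologicalKrullDim Y = 1 :=
    (SmoothReg.ringKrullDim_stalk_closedPoint q hc).symm.trans (h1 c hc)
  let φ₀ : Spec (Y.presheaf.stalk (genericPoint Y)) ⟶ X :=
    Spec.map (CommRingCat.ofHom e.symm.toRingHom) ≫ X.fromSpecStalk (genericPoint X)
  have hφ₀ : φ₀ ≫ (X ↘ Spec (CommRingCat.of k)) = Y.fromSpecStalk (genericPoint Y) ≫ q := by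
    rw [Category.assoc, Eg2Curve.over_spec k X, Eg2Curve.over_spec k Y, ← Spec.map_comp]
    congr 1
    refine CommRingCat.hom_ext (RingHom.ext fun c => ?_)
    exact e.symm_apply_eq.2 (he c).symm
  obtain ⟨W, hg, H, -, hH, hH₀⟩ := H23.RatExtend.extend q (X ↘ Spec (CommRingCat.of k)) φ₀ hφ₀ ∅
    (fun _ h => h.elim)
  refine ⟨Y, q, hY, inferInstance, inferInstance, hdimY, W, H, hg, ⟨?_⟩, hH⟩
  haveI : Nonempty W := ⟨⟨_, hg⟩⟩
  have hgen : genericPoint X ∈ Set.range H := by
    refine ⟨W.fromSpecStalkOfMem (genericPoint Y) hg (closedPoint _), ?_⟩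
    rw [← Scheme.Hom.comp_apply, hH₀]
    show (Spec.map (CommRingCat.ofHom e.symm.toRingHom) ≫ X.fromSpecStalk (genericPoint X)) _ = _
    rw [Scheme.Hom.comp_apply]
    refine (congrArg (X.fromSpecStalk (genericPoint X)) ?_).trans Scheme.fromSpecStalk_closedPoint
    exact Subsingleton.elim (α := PrimeSpectrum X.functionField) _ _
  rw [denseRange_iff_closure_range, Set.eq_univ_iff_forall]
  exact fun z => (genericPoint_specializes z).mem_closed isClosed_closure (subset_closure hgen)

end Groth.Agent.RatRes42
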