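import Groth.Agent.RegDimTwo.Basic
import Groth.Agent.GrpSchLib.SmoothRegular
import Groth.Agent.SmoothReg.Scheme
import Groth.Agent.DimFormula.Fibre
import Groth.Agent.H23.SetupLFT
import Mathlib.AlgebraicGeometry.AlgClosed.Basic
import Mathlib.AlgebraicGeometry.FunctionField

/-!
# The local ring of a smooth surface at a closed point
-/

set_option autoImplicit false

universe u

open CategoryTheory AlgebraicGeometry IsLocalRing

namespace Groth.Agent.RatRes42

variable {k : Type u} [Field k] {S : Scheme.{u}} (f : S ⟶ Spec (CommRingCat.of k))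

/-- The constants in a local ring. -/
noncomputable def stalkConst (x : S) : CommRingCat.of k ⟶ S.presheaf.stalk x :=
  Spec.preimage (S.fromSpecStalk x ≫ f)

theorem spec_stalkConst (x : S) : Spec.map (stalkConst f x) = S.fromSpecStalk x ≫ f :=
  Spec.map_preimage _

theorem stalkConst_specializes {x y : S} (h : x ⤳ y) :
    stalkConst f y ≫ S.presheaf.stalkSpecializes h = stalkConst f x := by
  refine Spec.map_injective ?_
  rw [Spec.map_comp, spec_stalkConst, spec_stalkConst, Scheme.SpecMap_stalkSpecializes_fromSpecStalk_assoc]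

variable [IsAlgClosed k] [IsIntegral S] [Smooth f]

theorem exists_sub_const_mem (x : S) (hx : IsClosed ({x} : Set S)) (a : S.presheaf.stalk x) :
    ∃ c : k, a - (stalkConst f x).hom c ∈ maximalIdeal (S.presheaf.stalk x) := by
  haveI : LocallyOfFiniteType f := inferInstance
  let e := residueFieldIsoBase f x hx
  have he : stalkConst f x ≫ S.residue x = e.inv := by
    refine Spec.map_injective ?_
    rw [Spec.map_comp, spec_stalkConst, SpecMap_residueFieldIsoBase_inv, Scheme.fromSpecResidueField,
      Category.assoc]
  refine ⟨e.hom.hom (S.residue x a), ?_⟩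
  rw [← residue_eq_zero_iff, map_sub, sub_eq_zero]
  have h1 := congr(($he).hom (e.hom.hom (S.residue x a)))
  have h2 : e.inv.hom (e.hom.hom (S.residue x a)) = S.residue x a := congr(($(e.hom_inv_id)).hom (S.residue x a))
  exact (h1.trans h2).symm

variable (hdim : topologicalKrullDim S = 2)

include f hdim in
/-- The structure of the local ring of a smooth surface at a closed point. -/
theorem surface_point (x : S) (hx : IsClosed ({x} : Set S)) :
    IsDomain (S.presheaf.stalk x) ∧ UniqueFactorizationMonoid (S.presheaf.stalk x) ∧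
      CAlg.IsUniversallyCatenary (S.presheaf.stalk x) ∧ (maximalIdeal (S.presheaf.stalk x)).height = 2 ∧
      ∃ u v : S.presheaf.stalk x, maximalIdeal (S.presheaf.stalk x) = Ideal.span {u, v} := by
  classical
  haveI : IsRegularLocalRing (S.presheaf.stalk x) := GrpSchLib.isRegularLocalRing_stalk_of_smooth f x
  have hd : ringKrullDim (S.presheaf.stalk x) = 2 :=
    (SmoothReg.ringKrullDim_stalk_closedPoint f hx).trans hdim
  obtain ⟨h1, h2⟩ := RegDimTwo.ufd _ hd
  refine ⟨h1, h2, H23.SetupLFT.isUniversallyCatenary_stalk f x (DimFormula.isUniversallyCatenary_stalk_field k _),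
    ?_, ?_⟩
  · have h := IsLocalRing.maximalIdeal_height_eq_ringKrullDim (R := S.presheaf.stalk x)
    rw [hd] at h
    exact WithBot.coe_inj.1 h
  · have hs : (maximalIdeal (S.presheaf.stalk x)).spanFinrank = 2 := by
      have h1 := (isRegularLocalRing_iff (S.presheaf.stalk x)).mp inferInstance
      rw [hd] at h1
      exact_mod_cast h1
    obtain ⟨s, hscard, hspan⟩ := Submodule.FG.exists_span_finset_card_eq_spanFinrank
      (IsNoetherian.noetherian (maximalIdeal (S.presheaf.stalk x)))
    obtain ⟨u, v, -, huv⟩ := Finset.card_eq_two.1 (hscard.trans hs)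
    refine ⟨u, v, ?_⟩
    rw [← hspan, huv, Finset.coe_pair]

end Groth.Agent.RatRes42
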