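import Groth.Agent.RatRes42.Indet
import Groth.Agent.RatRes42.Surface

/-!
# Rational curves from rational maps of surfaces
-/

set_option autoImplicit false

universe u

open CategoryTheory CategoryTheory.Limits AlgebraicGeometry IsLocalRing

namespace Groth.Agent.RatRes42

variable {k : Type u} [Field k] [IsAlgClosed k] {S : Scheme.{u}} [IsIntegral S]
  (f : S ⟶ Spec (CommRingCat.of k)) [Smooth f]
variable {n : ℕ} {X : Scheme.{u}} (ι : X ⟶ CohB1.ProjSpace n k) [IsClosedImmersion ι]

/-- A generic point of `S` with values in `X` is undefined at `x`. -/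
def IsUndefAt (φ₀ : Spec S.functionField ⟶ X) (x : S) : Prop :=
  ¬ ∃ h : Spec (S.presheaf.stalk x) ⟶ X, h ≫ ι ≫ CohB1.ProjSpace.toSpec n k = S.fromSpecStalk x ≫ f ∧
    Spec.map (S.presheaf.stalkSpecializes (genericPoint_specializes x)) ≫ h = φ₀

/-- The constants in the function field. -/
noncomputable abbrev algK : Algebra k S.functionField := (stalkConst f (genericPoint S)).hom.toAlgebra

/-- The constants in a local ring. -/
noncomputable abbrev algA (x : S) : Algebra k (S.presheaf.stalk x) := (stalkConst f x).hom.toAlgebra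

theorem isScalarTower_algA (x : S) :
    letI := algA f x; letI := algK f
    IsScalarTower k (S.presheaf.stalk x) S.functionField := by
  letI := algA f x; letI := algK f
  refine IsScalarTower.of_algebraMap_eq fun c => ?_
  exact (congr(($(stalkConst_specializes f (genericPoint_specializes x))).hom c)).symm

variable (hdim : topologicalKrullDim S = 2)

/-- Reduced coordinates at an indeterminacy point have no unit. -/
theorem exists_coords_of_undef (φ₀ : Spec S.functionField ⟶ X)
    (hφ₀ : φ₀ ≫ ι ≫ CohB1.ProjSpace.toSpec n k = S.fromSpecStalk (genericPoint S) ≫ f)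
    (x : S) [UniqueFactorizationMonoid (S.presheaf.stalk x)] [IsDomain (S.presheaf.stalk x)]
    (hu : IsUndefAt f ι φ₀ x) :
    letI := algA f x; letI := algK f; haveI := isScalarTower_algA f x
    ∃ (a : Fin (n + 1) → S.presheaf.stalk x),
      (∀ π : S.presheaf.stalk x, Prime π → ∃ j, ¬ π ∣ a j) ∧ (∀ j, a j ∈ maximalIdeal (S.presheaf.stalk x)) ∧
      (∃ i, a i ≠ 0) ∧ ∀ (i : Fin (n + 1)) (hi : a i ≠ 0),
        φ₀ ≫ ι = coordsAt (k := k) (K := S.functionField) a i hi := by
  letI := algA f x; letI := algK f; haveI := isScalarTower_algA f x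
  have hg : (φ₀ ≫ ι) ≫ CohB1.ProjSpace.toSpec n k =
      Spec.map (CommRingCat.ofHom (algebraMap k S.functionField)) := by
    rw [Category.assoc, hφ₀, ← spec_stalkConst]
    rfl
  obtain ⟨a, i, hi, hai, hred⟩ := exists_reduced_coords (A := S.presheaf.stalk x) (K := S.functionField) (φ₀ ≫ ι) hg
  refine ⟨a, hred, fun j => ?_, ⟨i, hi⟩, fun j hj => ((coordsAt_eq a i j hi hj).trans hai).symm⟩
  by_contra hj
  have hju : IsUnit (a j) := by
    by_contra h
    exact hj h
  obtain ⟨h, hh, hh'⟩ := exists_extension_of_isUnit ι φ₀ a j hju.ne_zero hju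
    ((coordsAt_eq a i j hi hju.ne_zero).trans hai).symm
  refine hu ⟨h, ?_, hh'⟩
  rw [hh, ← spec_stalkConst]
  rfl

include hdim in
/-- **An indeterminacy point gives a rational curve.** -/
theorem exists_line_of_undef [IsProper (ι ≫ CohB1.ProjSpace.toSpec n k)] (φ₀ : Spec S.functionField ⟶ X)
    (hφ₀ : φ₀ ≫ ι ≫ CohB1.ProjSpace.toSpec n k = S.fromSpecStalk (genericPoint S) ≫ f)
    (x : S) (hx : IsClosed ({x} : Set S)) (hu : IsUndefAt f ι φ₀ x) :
    ∃ g : CohB1.ProjSpace 1 k ⟶ X, g ≫ ι ≫ CohB1.ProjSpace.toSpec n k = CohB1.ProjSpace.toSpec 1 k ∧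
      ¬ ∃ z : X, Set.range g ⊆ {z} := by
  obtain ⟨hdom, hufd, hcat, hht, u, v, huv⟩ := surface_point f hdim x hx
  haveI := hdom
  haveI := hufd
  letI := algA f x; letI := algK f; haveI := isScalarTower_algA f x
  haveI : IsNoetherianRing (S.presheaf.stalk x) := hcat.1
  obtain ⟨a, hred, hall, hne, hφ⟩ := exists_coords_of_undef f ι φ₀ hφ₀ x hu
  have hnf : ¬ IsField (S.presheaf.stalk x) := fun h => by
    obtain ⟨i, hi⟩ := hne
    have := hall i
    rw [isField_iff_maximalIdeal_eq.1 h, Ideal.mem_bot] at this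
    exact hi this
  have hres : ∀ b : S.presheaf.stalk x, ∃ c : k, b - algebraMap k _ c ∈ maximalIdeal (S.presheaf.stalk x) :=
    exists_sub_const_mem f x hx
  obtain ⟨i₀, h0, Q, hQp, hQm, hQ⟩ := exists_rational_centre (K := S.functionField) hnf hres a hne
  obtain ⟨-, -, -, -, -, g, hg, -, hgn⟩ := exists_line_of_indet ι hcat huv hres hht φ₀ inferInstance a hred hall i₀ h0
    (hφ i₀ h0) Q hQm hQ
  exact ⟨g, hg, hgn⟩

/-- A rational map without indeterminacy at closed points is a morphism. -/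
theorem exists_morphism_of_defined [QuasiCompact f] [IsProper (ι ≫ CohB1.ProjSpace.toSpec n k)] (φ₀ : Spec S.functionField ⟶ X)
    (hφ₀ : φ₀ ≫ ι ≫ CohB1.ProjSpace.toSpec n k = S.fromSpecStalk (genericPoint S) ≫ f)
    (T : Set S) (hT : ∀ x ∈ T, ¬ IsUndefAt f ι φ₀ x) :
    ∃ (W : S.Opens) (hW : genericPoint S ∈ W) (H : W.toScheme ⟶ X), T ⊆ W ∧
      H ≫ ι ≫ CohB1.ProjSpace.toSpec n k = W.ι ≫ f ∧
      W.fromSpecStalkOfMem (genericPoint S) hW ≫ H = φ₀ := by
  haveI : X.IsSeparated := ⟨by
    rw [show terminal.from X = (ι ≫ CohB1.ProjSpace.toSpec n k) ≫ terminal.from _ from terminal.hom_ext _ _]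
    infer_instance⟩
  exact H23.RatExtend.extend f (ι ≫ CohB1.ProjSpace.toSpec n k) φ₀ hφ₀ T fun x hx => not_not.1 (hT x hx)

end Groth.Agent.RatRes42
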