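import Groth.Agent.H23.RatExtend
import Groth.Agent.H23.PnChart
import Groth.Agent.GrpSchLib.SmoothRegular
import Groth.Agent.DeformNL.PnRing
import Groth.Agent.SchTop.Closed
import Groth.Agent.RegLoc6.Basic
import Groth.Agent.S10829
import Mathlib.FieldTheory.RatFunc.Basic
import Mathlib.AlgebraicGeometry.FunctionField

/-!
# Rational curves from rational-function-field points

A point of a proper scheme with values in `k(T)` extends to a morphism from the projective line.
-/

set_option autoImplicit false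

universe u

open CategoryTheory CategoryTheory.Limits AlgebraicGeometry

namespace Groth.Agent.RatRes42

variable (k : Type u) [Field k]

/-- An affine line in the projective line. -/
theorem exists_lineChart :
    ∃ g : Spec (CommRingCat.of (Polynomial k)) ⟶ CohB1.ProjSpace 1 k, IsOpenImmersion g ∧
      g ≫ CohB1.ProjSpace.toSpec 1 k = Spec.map (CommRingCat.ofHom (Polynomial.C : k →+* Polynomial k)) := by
  let i : Fin (1 + 1) := 0
  haveI : Subsingleton (H23.PnChart.Idx.{u} 1 i) :=
    ⟨fun a b => ULift.ext _ _ (Subtype.ext (Fin.ext (by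
      have ha := a.down.2; have hb := b.down.2
      simp only [ne_eq, Fin.ext_iff, i, Fin.val_zero] at ha hb
      omega)))⟩
  letI : Unique (H23.PnChart.Idx.{u} 1 i) := uniqueOfSubsingleton ⟨⟨1, by decide⟩⟩
  let e := (RingEquiv.ofBijective (H23.PnChart.fromChart.{u} 1 k i) ⟨H23.PnChart.fromChart_injective 1 k i,
    H23.PnChart.fromChart_surjective 1 k i⟩).symm.trans (MvPolynomial.uniqueAlgEquiv k (H23.PnChart.Idx.{u} 1 i)).toRingEquiv
  refine ⟨Spec.map e.toCommRingCatIso.hom ≫ ZetaLib.chart 1 k i, inferInstance, ?_⟩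
  rw [Category.assoc, ZetaLib.chart_toSpec, ← Spec.map_comp]
  congr 1
  refine CommRingCat.hom_ext (RingHom.ext fun c => ?_)
  show MvPolynomial.uniqueAlgEquiv k _ ((RingEquiv.ofBijective (H23.PnChart.fromChart.{u} 1 k i) _).symm (ZetaLib.base 1 k i c)) = _
  have h : ZetaLib.base 1 k i c = H23.PnChart.fromChart.{u} 1 k i (MvPolynomial.C c) :=
    (MvPolynomial.eval₂Hom_C _ _ c).symm
  rw [h]
  refine (congrArg _ ((RingEquiv.ofBijective (H23.PnChart.fromChart.{u} 1 k i) _).symm_apply_apply
    (MvPolynomial.C c))).trans ?_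
  exact MvPolynomial.eval₂_C _ _ c

open IsLocalRing in
theorem valuationRing_of_regular (R : Type u) [CommRing R] [IsRegularLocalRing R] [IsDomain R]
    (h : ringKrullDim R ≤ 1) : ValuationRing R := by
  classical
  obtain ⟨s, hs, hspan⟩ := Submodule.FG.exists_span_finset_card_eq_spanFinrank
    (IsNoetherian.noetherian (maximalIdeal R))
  have hle : (maximalIdeal R).spanFinrank ≤ 1 := by
    have := IsRegularLocalRing.spanFinrank_maximalIdeal (R := R)
    exact_mod_cast this ▸ h
  have hp : (maximalIdeal R).IsPrincipal := by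
    rcases Finset.card_le_one_iff_subset_singleton.mp (hs ▸ hle) with ⟨a, ha⟩
    rcases Finset.subset_singleton_iff.mp ha with rfl | rfl
    · rw [← hspan, Finset.coe_empty, Submodule.span_empty]; exact bot_isPrincipal
    · exact ⟨a, by rw [← hspan, Finset.coe_singleton]⟩
  exact ((tfae_of_isNoetherianRing_of_isLocalRing_of_isDomain R).out 4 1).mp hp

variable {k} [IsAlgClosed k]

/-- The local rings of the projective line are valuation rings. -/
theorem valuationRing_stalk_line [IsIntegral (CohB1.ProjSpace 1 k)] (z : CohB1.ProjSpace 1 k) :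
    ValuationRing ((CohB1.ProjSpace 1 k).presheaf.stalk z) := by
  haveI : Smooth (CohB1.ProjSpace.toSpec 1 k) := DeformNL.PnRing.smooth_toSpec 1 k
  haveI := GrpSchLib.isRegularLocalRing_stalk_of_smooth (CohB1.ProjSpace.toSpec 1 k) z
  haveI : IsDomain ((CohB1.ProjSpace 1 k).presheaf.stalk z) :=
    Function.Injective.isDomain _
      (IsFractionRing.injective ((CohB1.ProjSpace 1 k).presheaf.stalk z) (CohB1.ProjSpace 1 k).functionField)
  have hd : ringKrullDim ((CohB1.ProjSpace 1 k).presheaf.stalk z) ≤ 1 :=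
    (SchTop.ringKrullDim_stalk_le z).trans (by rw [S10829.result k 1]; rfl)
  exact valuationRing_of_regular _ hd

/-- **A `k(T)`-valued point of a proper scheme spreads to a rational curve.** -/
theorem exists_line {X : Scheme.{u}} (p : X ⟶ Spec (CommRingCat.of k)) [IsProper p]
    (δ : Spec (CommRingCat.of (RatFunc k)) ⟶ X)
    (hδ : δ ≫ p = Spec.map (CommRingCat.ofHom (algebraMap k (RatFunc k))))
    (q : X) (hq : δ (IsLocalRing.closedPoint (RatFunc k)) ⤳ q) :
    ∃ g : CohB1.ProjSpace 1 k ⟶ X, g ≫ p = CohB1.ProjSpace.toSpec 1 k ∧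
      δ (IsLocalRing.closedPoint (RatFunc k)) ∈ Set.range g ∧ q ∈ Set.range g := by
  let P := CohB1.ProjSpace 1 k
  haveI : IsIntegral P := H23.PnChart.isIntegral_projSpace 1 k
  obtain ⟨g₀, hg₀o, hg₀⟩ := exists_lineChart k
  let R := CommRingCat.of (Polynomial k)
  haveI : IsDomain R := inferInstanceAs (IsDomain (Polynomial k))
  let K := (Spec R).functionField
  letI : Algebra (Polynomial k) K :=
    (StructureSheaf.toStalk R (genericPoint (Spec R))).hom.toAlgebra
  haveI : IsFractionRing (Polynomial k) K := functionField_isFractionRing_of_affine R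
  let e : K ≃ₐ[Polynomial k] RatFunc k := IsLocalization.algEquiv (nonZeroDivisors (Polynomial k)) _ _
  have hgen : g₀ (genericPoint (Spec R)) = genericPoint P := genericPoint_eq_of_isOpenImmersion g₀
  have hs : genericPoint P ⤳ g₀ (genericPoint (Spec R)) := specializes_of_eq hgen.symm
  let δ' : Spec K ⟶ X := Spec.map e.toRingEquiv.symm.toCommRingCatIso.hom ≫ δ
  have hδ' : δ' ≫ p = (Spec R).fromSpecStalk _ ≫ g₀ ≫ CohB1.ProjSpace.toSpec 1 k := by
    rw [Category.assoc, hδ, hg₀, Spec.fromSpecStalk_eq']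
    refine (Spec.map_comp _ _).symm.trans (Eq.trans ?_ (Spec.map_comp _ _))
    congr 1
    refine CommRingCat.hom_ext (RingHom.ext fun c => ?_)
    show e.symm (algebraMap k (RatFunc k) c) = algebraMap (Polynomial k) K (Polynomial.C c)
    rw [IsScalarTower.algebraMap_apply k (Polynomial k) (RatFunc k), Polynomial.algebraMap_eq,
      AlgEquiv.commutes]
  let φ₀ : Spec (P.presheaf.stalk (genericPoint P)) ⟶ X :=
    Spec.map (P.presheaf.stalkSpecializes hs) ≫ inv (Spec.map (g₀.stalkMap (genericPoint (Spec R)))) ≫ δ'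
  have h₀ : φ₀ ≫ p = P.fromSpecStalk _ ≫ CohB1.ProjSpace.toSpec 1 k := by
    rw [← Scheme.SpecMap_stalkSpecializes_fromSpecStalk hs]
    simp only [φ₀, Category.assoc]
    congr 1
    rw [IsIso.inv_comp_eq, hδ', Scheme.SpecMap_stalkMap_fromSpecStalk_assoc]
  haveI : X.IsSeparated := ⟨by
    rw [show terminal.from X = p ≫ terminal.from _ from terminal.hom_ext _ _]
    infer_instance⟩
  obtain ⟨W, hgW, H, hT, hH, hH₀⟩ := H23.RatExtend.extend (CohB1.ProjSpace.toSpec 1 k) p φ₀ h₀ Set.univ
    fun z _ => H23.RatExtend.exists_lift (CohB1.ProjSpace.toSpec 1 k) p φ₀ h₀ z (valuationRing_stalk_line z)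
  have hW : W = ⊤ := top_unique fun z _ => hT (Set.mem_univ z)
  subst hW
  let g : P ⟶ X := P.topIso.inv ≫ H
  have hgp : g ≫ p = CohB1.ProjSpace.toSpec 1 k := by
    rw [Category.assoc, hH, ← Scheme.topIso_hom, Iso.inv_hom_id_assoc]
  have hgη : δ (IsLocalRing.closedPoint (RatFunc k)) ∈ Set.range g := by
    have hrange : Set.range φ₀ ⊆ Set.range g := by
      rintro _ ⟨z, rfl⟩
      refine ⟨(⊤ : P.Opens).ι ((⊤ : P.Opens).fromSpecStalkOfMem (genericPoint P) hgW z), ?_⟩
      rw [← hH₀]
      show (((⊤ : P.Opens).ι ≫ P.topIso.inv) ≫ H) _ = _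
      rw [← Scheme.topIso_hom, Iso.hom_inv_id, Category.id_comp]
      rfl
    refine hrange ⟨IsLocalRing.closedPoint _, ?_⟩
    show δ _ = δ _
    congr 1
    exact Subsingleton.elim (α := PrimeSpectrum (RatFunc k)) _ _
  refine ⟨g, hgp, hgη, ?_⟩
  haveI : IsProper (CohB1.ProjSpace.toSpec 1 k) := PnCoh.Chow.isProper_toSpec 1 k
  haveI : IsProper (g ≫ p) := hgp ▸ inferInstance
  haveI : IsProper g := IsProper.of_comp g p
  exact g.isClosedMap.isClosed_range.stableUnderSpecialization hq hgη

end Groth.Agent.RatRes42
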