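import Groth.Agent.RatRes42.Centre
import Groth.Agent.RatRes42.LineExt
import Groth.Agent.RatRes42.Coords
import Mathlib.Algebra.GCDMonoid.Finset
import Mathlib.RingTheory.Jacobson.Ring
import Mathlib.RingTheory.UniqueFactorizationDomain.GCDMonoid

/-!
# Indeterminacy points of rational maps from surfaces
-/

set_option autoImplicit false

universe u

open CategoryTheory CategoryTheory.Limits AlgebraicGeometry IsLocalRing
open HomogeneousLocalization (Away)

namespace Groth.Agent.RatRes42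

open Groth.Agent.ZetaLib

/-- A closed immersion factors a map from a reduced scheme as soon as it does so on a dense part. -/
theorem exists_factor_of_dense {X P T' T : Scheme.{u}} [IsReduced T] (ι : X ⟶ P) [IsClosedImmersion ι]
    (j : T' ⟶ T) [IsDominant j] (h : T ⟶ P) (a : T' ⟶ X) (ha : a ≫ ι = j ≫ h) :
    ∃ l : T ⟶ X, l ≫ ι = h ∧ j ≫ l = a := by
  haveI : Surjective (pullback.snd ι h) := ⟨by
    rw [← Set.range_eq_univ, Set.eq_univ_iff_forall]
    intro t
    have hsub : Set.range j ⊆ Set.range (pullback.snd ι h) := by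
      rintro _ ⟨z, rfl⟩
      exact ⟨pullback.lift a j ha z, by rw [← Scheme.Hom.comp_apply, pullback.lift_snd]⟩
    have hd : DenseRange j := j.denseRange
    exact (pullback.snd ι h).isClosedEmbedding.isClosed_range.closure_subset (closure_mono hsub (hd t))⟩
  haveI : IsIso (pullback.snd ι h) := isIso_of_isClosedImmersion_of_surjective _
  refine ⟨inv (pullback.snd ι h) ≫ pullback.fst ι h, ?_, ?_⟩
  · rw [Category.assoc, IsIso.inv_comp_eq, pullback.condition]
  · have : pullback.lift a j ha ≫ pullback.snd ι h = j := pullback.lift_snd _ _ _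
    calc j ≫ inv (pullback.snd ι h) ≫ pullback.fst ι h
        = pullback.lift a j ha ≫ pullback.fst ι h := by
          conv_lhs => rw [← this]
          simp
      _ = a := pullback.lift_fst _ _ _

theorem exists_const_of_finiteType {k L : Type u} [Field k] [IsAlgClosed k] [Field L] [Algebra k L]
    [Algebra.FiniteType k L] (z : L) : ∃ c : k, algebraMap k L c = z := by
  haveI : Module.Finite k L := finite_of_finite_type_of_isJacobsonRing k L
  exact exists_const_of_isAlgebraic (Algebra.IsAlgebraic.isAlgebraic z)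

section Coordinates

variable {n : ℕ} {k : Type u} [Field k] [IsAlgClosed k]
variable {A : Type u} [CommRing A] [IsDomain A] [IsLocalRing A] [Algebra k A]
variable {K : Type u} [Field K] [Algebra A K] [IsFractionRing A K] [Algebra k K] [IsScalarTower k A K]

/-- The homogeneous point with coordinates `a`, in the chart `i`. -/
noncomputable def coordsAt (a : Fin (n + 1) → A) (i : Fin (n + 1)) (hi : a i ≠ 0) :
    Spec (CommRingCat.of K) ⟶ CohB1.ProjSpace n k :=
  pointAt i (fun j => algebraMap A K (a j) / algebraMap A K (a i))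
    (div_self ((map_ne_zero_iff _ (IsFractionRing.injective A K)).2 hi))

omit [IsAlgClosed k] [IsLocalRing A] [Algebra k A] [IsScalarTower k A K] in
theorem coordsAt_eq (a : Fin (n + 1) → A) (i j : Fin (n + 1)) (hi : a i ≠ 0) (hj : a j ≠ 0) :
    coordsAt (k := k) (K := K) a j hj = coordsAt a i hi := by
  have hi' := (map_ne_zero_iff _ (IsFractionRing.injective A K)).2 hi
  have hj' := (map_ne_zero_iff _ (IsFractionRing.injective A K)).2 hj
  refine Eq.trans ?_ (pointAt_change i j _ (div_self hi') (div_ne_zero hj' hi'))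
  simp only [coordsAt, div_div_div_cancel_right₀ hi']

/-- Reduced homogeneous coordinates of a field-valued point. -/
theorem exists_reduced_coords [UniqueFactorizationMonoid A] (g : Spec (CommRingCat.of K) ⟶ CohB1.ProjSpace n k)
    (hg : g ≫ CohB1.ProjSpace.toSpec n k = Spec.map (CommRingCat.ofHom (algebraMap k K))) :
    ∃ (a : Fin (n + 1) → A) (i : Fin (n + 1)) (hi : a i ≠ 0), coordsAt a i hi = g ∧
      ∀ π : A, Prime π → ∃ j, ¬ π ∣ a j := by
  classical
  obtain ⟨i, hi⟩ := exists_mem_chart (g (closedPoint K))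
  obtain ⟨v, hv, rfl⟩ := exists_pointAt g hg i hi
  obtain ⟨b, hb⟩ := IsLocalization.exist_integer_multiples_of_finite (nonZeroDivisors A) v
  choose c hc using hb
  letI : NormalizedGCDMonoid A := Classical.arbitrary (NormalizedGCDMonoid A)
  obtain ⟨a, ha, hgcd⟩ := Finset.extract_gcd c (Finset.univ_nonempty (α := Fin (n + 1)))
  have hbK : algebraMap A K b ≠ 0 := (map_ne_zero_iff _ (IsFractionRing.injective A K)).2 (nonZeroDivisors.ne_zero b.2)
  have hcv : ∀ j, algebraMap A K (c j) = algebraMap A K b * v j := fun j => (hc j).trans (Algebra.smul_def _ _)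
  have hci : c i ≠ 0 := fun h0 => by
    have := hcv i
    rw [h0, map_zero, hv, mul_one] at this
    exact hbK this.symm
  have hai : a i ≠ 0 := fun h0 => hci (by rw [ha i (Finset.mem_univ i), h0, mul_zero])
  refine ⟨a, i, hai, ?_, fun π hπ => ?_⟩
  · have hg0 : algebraMap A K (Finset.univ.gcd c) ≠ 0 := by
      refine (map_ne_zero_iff _ (IsFractionRing.injective A K)).2 fun h0 => hci ?_
      rw [ha i (Finset.mem_univ i), h0, zero_mul]
    show pointAt i _ _ = pointAt i v hv
    congr 1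
    funext j
    have e1 : algebraMap A K (a j) / algebraMap A K (a i) = algebraMap A K (c j) / algebraMap A K (c i) := by
      rw [ha i (Finset.mem_univ i), ha j (Finset.mem_univ j), map_mul, map_mul, mul_div_mul_left _ _ hg0]
    rw [e1, hcv, hcv, mul_div_mul_left _ _ hbK, hv, div_one]
  · by_contra! h
    refine hπ.not_isUnit (isUnit_of_dvd_one ?_)
    rw [← hgcd]
    exact Finset.dvd_gcd fun j _ => h j

variable {X : Scheme.{u}} (ι : X ⟶ CohB1.ProjSpace n k) [IsClosedImmersion ι]

/-- The chart of the blow-up maps to the target. -/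
theorem exists_chart_map (φ : Spec (CommRingCat.of K) ⟶ X) (a : Fin (n + 1) → A) (i₀ : Fin (n + 1))
    (h0 : a i₀ ≠ 0) (hφ : φ ≫ ι = coordsAt a i₀ h0) :
    ∃ (Φ : Away (CohB1.polyGrading n k) (MvPolynomial.X i₀) →+* chartAlg K a i₀)
      (h : Spec (CommRingCat.of (chartAlg K a i₀)) ⟶ X),
      (∀ c, Φ (base n k i₀ c) = algebraMap A _ (algebraMap k A c)) ∧
      (∀ j, Φ (coord n k i₀ j) = chartCoord K a i₀ j) ∧
      h ≫ ι = Spec.map (CommRingCat.ofHom Φ) ≫ chart n k i₀ ∧
      Spec.map (CommRingCat.ofHom (chartAlg K a i₀).val.toRingHom) ≫ h = φ := by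
  let B := chartAlg K a i₀
  let hv : (fun j => algebraMap A K (a j) / algebraMap A K (a i₀)) i₀ = 1 :=
    div_self ((map_ne_zero_iff _ (IsFractionRing.injective A K)).2 h0)
  let E := evalAt (k := k) i₀ (fun j => algebraMap A K (a j) / algebraMap A K (a i₀)) hv
  have hbase : ∀ c, E (base n k i₀ c) = algebraMap A K (algebraMap k A c) := fun c => by
    rw [← IsScalarTower.algebraMap_apply]
    exact RingHom.congr_fun (evalAt_base i₀ _ hv) c
  have hmem : ∀ z, E z ∈ B.toSubring := fun z => by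
    obtain ⟨f, rfl⟩ := surjective_dehom n k i₀ z
    induction f using MvPolynomial.induction_on with
    | C c =>
      rw [dehom, MvPolynomial.eval₂Hom_C, hbase]
      exact B.algebraMap_mem _
    | add f g hf hg => rw [map_add, map_add]; exact add_mem hf hg
    | mul_X f j hf =>
      rw [map_mul, map_mul]
      refine mul_mem hf ?_
      rw [dehom, MvPolynomial.eval₂Hom_X', evalAt_coord]
      exact Algebra.subset_adjoin ⟨j, rfl⟩
  let Φ : Away (CohB1.polyGrading n k) (MvPolynomial.X i₀) →+* B := E.codRestrict B.toSubring hmem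
  have hdom : IsDominant (Spec.map (CommRingCat.ofHom B.val.toRingHom)) := by
    refine ⟨?_⟩
    show DenseRange (PrimeSpectrum.comap B.val.toRingHom)
    rw [PrimeSpectrum.denseRange_comap_iff_ker_le_nilRadical]
    intro z hz
    rw [RingHom.mem_ker] at hz
    rw [show z = 0 from Subtype.ext hz]
    exact zero_mem _
  obtain ⟨h, hh, hhφ⟩ := exists_factor_of_dense ι (Spec.map (CommRingCat.ofHom B.val.toRingHom))
    (Spec.map (CommRingCat.ofHom Φ) ≫ chart n k i₀) φ (by
      rw [hφ, ← Category.assoc, ← Spec.map_comp]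
      rfl)
  exact ⟨Φ, h, fun c => Subtype.ext (hbase c), fun j => Subtype.ext (evalAt_coord i₀ _ hv j), hh, hhφ⟩

theorem chart_map_over (a : Fin (n + 1) → A) (i₀ : Fin (n + 1))
    (Φ : Away (CohB1.polyGrading n k) (MvPolynomial.X i₀) →+* chartAlg K a i₀)
    (hΦ : ∀ c, Φ (base n k i₀ c) = algebraMap A _ (algebraMap k A c))
    (h : Spec (CommRingCat.of (chartAlg K a i₀)) ⟶ X)
    (hh : h ≫ ι = Spec.map (CommRingCat.ofHom Φ) ≫ chart n k i₀) :
    h ≫ ι ≫ CohB1.ProjSpace.toSpec n k =
      Spec.map (CommRingCat.ofHom ((algebraMap A (chartAlg K a i₀)).comp (algebraMap k A))) := by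
  rw [reassoc_of% hh, chart_toSpec, ← Spec.map_comp]
  exact congrArg (fun f => Spec.map (CommRingCat.ofHom f)) (RingHom.ext hΦ)

/-- Reduced coordinates with a unit among them: the point extends over `A`. -/
theorem exists_extension_of_isUnit (φ : Spec (CommRingCat.of K) ⟶ X) (a : Fin (n + 1) → A) (i₀ : Fin (n + 1))
    (h0 : a i₀ ≠ 0) (hu : IsUnit (a i₀)) (hφ : φ ≫ ι = coordsAt a i₀ h0) :
    ∃ h : Spec (CommRingCat.of A) ⟶ X,
      h ≫ ι ≫ CohB1.ProjSpace.toSpec n k = Spec.map (CommRingCat.ofHom (algebraMap k A)) ∧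
      Spec.map (CommRingCat.ofHom (algebraMap A K)) ≫ h = φ := by
  obtain ⟨Φ, h, hΦ, -, hh, hhφ⟩ := exists_chart_map ι φ a i₀ h0 hφ
  let B := chartAlg K a i₀
  have hbij : Function.Bijective (algebraMap A B) := by
    refine ⟨fun x y hxy => IsFractionRing.injective A K (congrArg Subtype.val hxy), fun z => ?_⟩
    have hle : B ≤ (⊥ : Subalgebra A K) := Algebra.adjoin_le (by
      rintro _ ⟨j, rfl⟩
      obtain ⟨w, hw⟩ := hu.exists_right_inv
      refine Algebra.mem_bot.2 ⟨a j * w, ?_⟩
      rw [eq_div_iff ((map_ne_zero_iff _ (IsFractionRing.injective A K)).2 h0), ← map_mul,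
        mul_assoc, mul_comm w, hw, mul_one])
    obtain ⟨x, hx⟩ := Algebra.mem_bot.1 (hle z.2)
    exact ⟨x, Subtype.ext hx⟩
  let e := RingEquiv.ofBijective (algebraMap A B) hbij
  refine ⟨Spec.map (CommRingCat.ofHom e.symm.toRingHom) ≫ h, ?_, ?_⟩
  · rw [Category.assoc, chart_map_over ι a i₀ Φ hΦ h hh, ← Spec.map_comp]
    refine congrArg (fun f => Spec.map (CommRingCat.ofHom f)) (RingHom.ext fun c => ?_)
    exact e.symm_apply_apply _
  · rw [← Category.assoc, ← Spec.map_comp, ← hhφ]
    congr 2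
    refine CommRingCat.hom_ext (RingHom.ext fun z => ?_)
    exact congrArg Subtype.val (e.apply_symm_apply z)

omit [IsAlgClosed k] [Algebra k A] [Algebra k K] [IsScalarTower k A K] in
/-- Reduced coordinates without units generate a primary ideal of the closed point. -/
theorem exists_pow_le_span [IsNoetherianRing A] [UniqueFactorizationMonoid A] (hdim : (maximalIdeal A).height ≤ 2)
    (a : Fin (n + 1) → A) (hne : ∃ i, a i ≠ 0) (hred : ∀ π : A, Prime π → ∃ j, ¬ π ∣ a j) :
    ∃ r : ℕ, maximalIdeal A ^ r ≤ Ideal.span (Set.range a) := by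
  refine Ideal.exists_pow_le_of_le_radical_of_fg ?_ (IsNoetherian.noetherian _)
  rw [Ideal.radical_eq_sInf]
  refine le_sInf ?_
  rintro P ⟨hP, hPp⟩
  by_contra hcon
  haveI := hPp
  have hlt : P < maximalIdeal A := lt_of_le_of_ne (le_maximalIdeal hPp.ne_top) fun h => hcon h.ge
  obtain ⟨i, hi⟩ := hne
  have hP0 : P ≠ ⊥ := fun h => hi ((Submodule.mem_bot A).1 (h ▸ hP (Ideal.subset_span ⟨i, rfl⟩)))
  obtain ⟨π, hπP, hπ⟩ := Ideal.IsPrime.exists_mem_prime_of_ne_bot hPp hP0
  haveI : (Ideal.span {π}).IsPrime := (Ideal.span_singleton_prime hπ.ne_zero).2 hπ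
  have hle : Ideal.span {π} ≤ P := (Ideal.span_singleton_le_iff_mem _).2 hπP
  obtain ⟨j, hj⟩ := hred π hπ
  have hlt' : Ideal.span {π} < P := lt_of_le_of_ne hle fun h => hj (by
    rw [← Ideal.mem_span_singleton, h]
    exact hP (Ideal.subset_span ⟨j, rfl⟩))
  have h1 := Ideal.height_add_one_le_of_lt_of_isPrime hlt'
  have h2 := Ideal.height_add_one_le_of_lt_of_isPrime hlt
  have h3 : (1 : ℕ∞) ≤ (Ideal.span {π}).height := by
    have h := Ideal.height_add_one_le_of_lt_of_isPrime (I := (⊥ : Ideal A)) (J := Ideal.span {π})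
      (bot_lt_iff_ne_bot.2 fun h => hπ.ne_zero ((Submodule.mem_bot A).1 (h ▸ Ideal.mem_span_singleton_self π)))
    exact le_trans le_add_self h
  have h4 : (3 : ℕ∞) ≤ 2 := by
    refine le_trans ?_ hdim
    calc (3 : ℕ∞) = 1 + 1 + 1 := by norm_num
      _ ≤ (Ideal.span {π}).height + 1 + 1 := by gcongr
      _ ≤ P.height + 1 := by gcongr
      _ ≤ _ := h2
  exact absurd h4 (by decide)

/-- A rational point of a chart over the closed point. -/
theorem exists_rational_centre [IsNoetherianRing A] (hnf : ¬ IsField A)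
    (hres : ∀ a : A, ∃ c : k, a - algebraMap k A c ∈ maximalIdeal A)
    (a : Fin (n + 1) → A) (hne : ∃ i, a i ≠ 0) :
    ∃ (i₀ : Fin (n + 1)) (_ : a i₀ ≠ 0) (Q : Ideal (chartAlg K a i₀)), Q.IsPrime ∧
      Q.comap (algebraMap A _) = maximalIdeal A ∧
      ∀ b, ∃ c : k, b - algebraMap A (chartAlg K a i₀) (algebraMap k A c) ∈ Q := by
  classical
  obtain ⟨R, hR, hRA, hRlt⟩ := S4433.result A hnf K K
    (IntermediateField.fg_def.mpr ⟨∅, Set.finite_empty, Subsingleton.elim _ _⟩)
  obtain ⟨i₀, -, hmax⟩ := Finset.exists_max_image (Finset.univ : Finset (Fin (n + 1)))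
    (fun i => R.valuation (algebraMap A K (a i))) Finset.univ_nonempty
  have h0 : a i₀ ≠ 0 := fun h0 => by
    obtain ⟨i, hi⟩ := hne
    have := hmax i (Finset.mem_univ i)
    rw [h0, map_zero, map_zero, le_zero_iff, map_eq_zero] at this
    exact hi (IsFractionRing.injective A K (this.trans (map_zero _).symm))
  let B := chartAlg K a i₀
  have hBR : ∀ b : B, (b : K) ∈ R := by
    rintro ⟨z, hz⟩
    induction hz using Algebra.adjoin_induction with
    | mem z hz =>
      obtain ⟨j, rfl⟩ := hz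
      rw [← R.valuation_le_one_iff, map_div₀,
        div_le_one₀ (zero_lt_iff.2 fun h => h0 (IsFractionRing.injective A K
          (((map_eq_zero R.valuation).1 h).trans (map_zero _).symm)))]
      exact hmax j (Finset.mem_univ j)
    | algebraMap z => exact hRA z
    | add z w _ _ h h' => exact add_mem h h'
    | mul z w _ _ h h' => exact mul_mem h h'
  let incl : B →+* R := (B.val.toRingHom).codRestrict R.toSubring hBR
  let P₀ : Ideal B := (maximalIdeal R).comap incl
  obtain ⟨Q, hQ, hPQ⟩ := Ideal.exists_le_maximal P₀ ((maximalIdeal.isMaximal R).isPrime.comap incl).ne_top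
  have hQm : Q.comap (algebraMap A B) = maximalIdeal A := by
    refine (le_maximalIdeal (Ideal.IsPrime.comap _ (hK := hQ.isPrime)).ne_top).antisymm fun z hz => hPQ ?_
    show incl (algebraMap A B z) ∈ maximalIdeal R
    exact (R.valuation_lt_one_iff _).2 (hRlt z hz)
  refine ⟨i₀, h0, Q, hQ.isPrime, hQm, fun b => ?_⟩
  haveI := hQ
  letI : Field (B ⧸ Q) := Ideal.Quotient.field Q
  letI : Algebra k (B ⧸ Q) := ((Ideal.Quotient.mk Q).comp ((algebraMap A B).comp (algebraMap k A))).toAlgebra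
  haveI : Algebra.FiniteType k (B ⧸ Q) := by
    refine ⟨⟨(Finset.univ : Finset (Fin (n + 1))).image fun j => Ideal.Quotient.mk Q (chartCoord K a i₀ j), ?_⟩⟩
    rw [eq_top_iff]
    rintro z -
    obtain ⟨⟨z, hz⟩, rfl⟩ := Ideal.Quotient.mk_surjective z
    induction hz using Algebra.adjoin_induction with
    | mem z hz =>
      obtain ⟨j, rfl⟩ := hz
      exact Algebra.subset_adjoin (Finset.mem_coe.2 (Finset.mem_image.2 ⟨j, Finset.mem_univ j, rfl⟩))
    | algebraMap z =>
      obtain ⟨c, hc⟩ := hres z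
      have hzc : Ideal.Quotient.mk Q (algebraMap A B z) = algebraMap k (B ⧸ Q) c := by
        refine Ideal.Quotient.eq.2 ?_
        rw [RingHom.comp_apply, ← map_sub]
        show z - algebraMap k A c ∈ Q.comap (algebraMap A B)
        rw [hQm]
        exact hc
      exact (show Ideal.Quotient.mk Q (⟨algebraMap A K z, _⟩ : B) = algebraMap k (B ⧸ Q) c from hzc) ▸
        Subalgebra.algebraMap_mem _ c
    | add z w hz' hw' h h' =>
      have h2 := add_mem h h'
      rwa [← map_add] at h2
    | mul z w hz' hw' h h' =>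
      have h2 := mul_mem h h'
      rwa [← map_mul] at h2
  obtain ⟨c, hc⟩ := exists_const_of_finiteType (k := k) (L := B ⧸ Q) (Ideal.Quotient.mk Q b)
  exact ⟨c, Ideal.Quotient.eq.1 hc.symm⟩

/-- **An indeterminacy point gives a rational curve through the image of any point of the blow-up over it.** -/
theorem exists_line_of_indet (hcat : CAlg.IsUniversallyCatenary A) {x y : A}
    (hxy : maximalIdeal A = Ideal.span {x, y}) (hres : ∀ a : A, ∃ c : k, a - algebraMap k A c ∈ maximalIdeal A)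
    [UniqueFactorizationMonoid A] (hdim : (maximalIdeal A).height = 2)
    (φ : Spec (CommRingCat.of K) ⟶ X) (hX : IsProper (ι ≫ CohB1.ProjSpace.toSpec n k))
    (a : Fin (n + 1) → A) (hred : ∀ π : A, Prime π → ∃ j, ¬ π ∣ a j) (hall : ∀ j, a j ∈ maximalIdeal A)
    (i₀ : Fin (n + 1)) (h0 : a i₀ ≠ 0) (hφ : φ ≫ ι = coordsAt a i₀ h0)
    (Q : Ideal (chartAlg K a i₀)) [Q.IsPrime] (hQm : Q.comap (algebraMap A _) = maximalIdeal A)
    (hQ : ∀ b, ∃ c : k, b - algebraMap A (chartAlg K a i₀) (algebraMap k A c) ∈ Q) :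
    ∃ (Φ : Away (CohB1.polyGrading n k) (MvPolynomial.X i₀) →+* chartAlg K a i₀)
      (h : Spec (CommRingCat.of (chartAlg K a i₀)) ⟶ X),
      (∀ c, Φ (base n k i₀ c) = algebraMap A _ (algebraMap k A c)) ∧
      (∀ j, Φ (coord n k i₀ j) = chartCoord K a i₀ j) ∧
      h ≫ ι = Spec.map (CommRingCat.ofHom Φ) ≫ chart n k i₀ ∧
      ∃ g : CohB1.ProjSpace 1 k ⟶ X, g ≫ ι ≫ CohB1.ProjSpace.toSpec n k = CohB1.ProjSpace.toSpec 1 k ∧
        h ⟨Q, inferInstance⟩ ∈ Set.range g ∧ ¬ ∃ z : X, Set.range g ⊆ {z} := by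
  haveI : IsNoetherianRing A := hcat.1
  haveI := hX
  obtain ⟨r, hr⟩ := exists_pow_le_span hdim.le a ⟨i₀, h0⟩ hred
  obtain ⟨Φ, h, hΦ, hΦc, hh, -⟩ := exists_chart_map ι φ a i₀ h0 hφ
  obtain ⟨ψ, hψk, hψm, hψQ, j, hj⟩ := exists_ratFunc_point hcat hxy hres hdim.ge a i₀ h0 (hall i₀) hr Q hQm hQ
  let δ : Spec (CommRingCat.of (RatFunc k)) ⟶ X := Spec.map (CommRingCat.ofHom ψ) ≫ h
  have hδ : δ ≫ ι ≫ CohB1.ProjSpace.toSpec n k = Spec.map (CommRingCat.ofHom (algebraMap k (RatFunc k))) := by
    rw [Category.assoc, chart_map_over ι a i₀ Φ hΦ h hh, ← Spec.map_comp]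
    exact congrArg (fun f => Spec.map (CommRingCat.ofHom f)) (RingHom.ext hψk)
  let qQ : Spec (CommRingCat.of (chartAlg K a i₀)) := ⟨Q, inferInstance⟩
  let qψ : Spec (CommRingCat.of (chartAlg K a i₀)) := Spec.map (CommRingCat.ofHom ψ) (closedPoint (RatFunc k))
  have hle : qψ.asIdeal ≤ Q := fun z hz => hψQ ((IsLocalRing.residue_eq_zero_iff _).2 hz |> fun h' =>
    (map_eq_zero_iff (residue (RatFunc k)) (residue (RatFunc k)).injective).1 h')
  have hsp : δ (closedPoint (RatFunc k)) ⤳ h qQ :=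
    ((PrimeSpectrum.le_iff_specializes qψ qQ).1 hle).map h.continuous
  obtain ⟨g, hg, hgδ, hgQ⟩ := exists_line _ δ hδ _ hsp
  refine ⟨Φ, h, hΦ, hΦc, hh, g, hg, hgQ, fun ⟨z, hz⟩ => ?_⟩
  have heq : δ (closedPoint (RatFunc k)) = h qQ := (hz hgδ).trans (hz hgQ).symm
  have h1 : Spec.map (CommRingCat.ofHom Φ) qψ = Spec.map (CommRingCat.ofHom Φ) qQ := by
    refine (chart n k i₀).isOpenEmbedding.injective ?_
    have e : ∀ q, chart n k i₀ (Spec.map (CommRingCat.ofHom Φ) q) = ι (h q) := fun q => by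
      rw [← Scheme.Hom.comp_apply, ← Scheme.Hom.comp_apply, hh]
    rw [e, e]
    exact congrArg ι heq
  obtain ⟨c, hc⟩ := hQ (chartCoord K a i₀ j)
  refine hj c ?_
  have h2 : coord n k i₀ j - base n k i₀ c ∈ (Spec.map (CommRingCat.ofHom Φ) qQ).asIdeal := by
    show Φ _ ∈ Q
    rw [map_sub, hΦc, hΦ]
    exact hc
  rw [← h1] at h2
  have h3 : ψ (Φ (coord n k i₀ j - base n k i₀ c)) ∈ maximalIdeal (RatFunc k) := h2
  rw [maximalIdeal_eq_bot, Ideal.mem_bot, map_sub, map_sub, hΦc, hΦ, hψk, sub_eq_zero] at h3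
  exact h3

end Coordinates

end Groth.Agent.RatRes42
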