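import Mathlib.RingTheory.DiscreteValuationRing.Basic
import Mathlib.RingTheory.LocalRing.ResidueField.Basic
import Mathlib.RingTheory.Algebraic.Basic
import Mathlib.FieldTheory.IsAlgClosed.Basic
import Mathlib.FieldTheory.RatFunc.Basic
import Mathlib.FieldTheory.RatFunc.AsPolynomial
import Mathlib.Algebra.Polynomial.Div
import Mathlib.RingTheory.Polynomial.Basic

/-!
# Quadratic transforms along a discrete valuation

A discrete valuation ring `V` dominating a two-dimensional "point" `A` (a local subring with residue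
field `k` and two-generated maximal ideal, with the same fraction field) either has residue field
algebraic over `k`, or residue field the rational function field `k(T)`: one follows the quadratic
transforms of `A` along `V`.
-/

set_option autoImplicit false

universe u

open IsLocalRing

namespace Groth.Agent.RatRes42

variable {k : Type u} [Field k] {V : Type u} [CommRing V] [IsDomain V] [IsDiscreteValuationRing V]
  [Algebra k V]

/-- A local subalgebra with residue field `k`, two-generated maximal ideal and full fraction field. -/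
structure IsPoint (A : Subalgebra k V) : Prop where
  unit : ∀ a ∈ A, IsUnit a → ∃ b ∈ A, a * b = 1
  gen : ∃ x y, x ∈ A ∧ y ∈ A ∧ ¬IsUnit x ∧ ¬IsUnit y ∧
    ∀ a ∈ A, ¬IsUnit a → ∃ p q, p ∈ A ∧ q ∈ A ∧ a = p * x + q * y
  res : ∀ a ∈ A, ∃ c : k, ¬IsUnit (a - algebraMap k V c)
  frac : ∀ z : V, ∃ a b, a ∈ A ∧ b ∈ A ∧ b ≠ 0 ∧ z * b = a

theorem not_isUnit_iff_residue (z : V) : ¬IsUnit z ↔ residue V z = 0 :=
  ((residue_eq_zero_iff z).trans (mem_maximalIdeal z)).symm

theorem residue_eq_of_not_isUnit_sub {z : V} {c : k} (h : ¬IsUnit (z - algebraMap k V c)) :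
    residue V z = algebraMap k (ResidueField V) c := by
  rw [not_isUnit_iff_residue, map_sub, sub_eq_zero] at h
  exact h

/-- The elements `f / g` with `f, g ∈ B` and `g` a unit of `V`. -/
def unitLoc (B : Subalgebra k V) : Subalgebra k V where
  carrier := {z | ∃ f g, f ∈ B ∧ g ∈ B ∧ IsUnit g ∧ z * g = f}
  mul_mem' := by
    rintro z w ⟨f, g, hf, hg, hu, he⟩ ⟨f', g', hf', hg', hu', he'⟩
    exact ⟨f * f', g * g', mul_mem hf hf', mul_mem hg hg', hu.mul hu', by rw [← he, ← he']; ring⟩
  add_mem' := by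
    rintro z w ⟨f, g, hf, hg, hu, he⟩ ⟨f', g', hf', hg', hu', he'⟩
    exact ⟨f * g' + f' * g, g * g', add_mem (mul_mem hf hg') (mul_mem hf' hg), mul_mem hg hg', hu.mul hu',
      by rw [← he, ← he']; ring⟩
  algebraMap_mem' c := ⟨algebraMap k V c, 1, B.algebraMap_mem c, one_mem B, isUnit_one, mul_one _⟩

theorem le_unitLoc (B : Subalgebra k V) : B ≤ unitLoc B := fun z hz =>
  ⟨z, 1, hz, one_mem B, isUnit_one, mul_one _⟩

/-- The algebra `A[s]`. -/
noncomputable def adjoinElt (A : Subalgebra k V) (s : V) : Subalgebra k V :=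
  (Polynomial.aeval (R := A) s).range.restrictScalars k

theorem mem_adjoinElt {A : Subalgebra k V} {s z : V} :
    z ∈ adjoinElt A s ↔ ∃ P : Polynomial A, Polynomial.aeval s P = z := Iff.rfl

theorem le_adjoinElt (A : Subalgebra k V) (s : V) : A ≤ adjoinElt A s := fun z hz =>
  ⟨Polynomial.C ⟨z, hz⟩, by simp⟩

theorem self_mem_adjoinElt (A : Subalgebra k V) (s : V) : s ∈ adjoinElt A s :=
  ⟨Polynomial.X, by simp⟩

theorem residue_mem_range [IsAlgClosed k] {z : V} (h : IsAlgebraic k (residue V z)) :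
    ∃ c : k, ¬IsUnit (z - algebraMap k V c) := by
  have hint : IsIntegral k (residue V z) := h.isIntegral
  obtain ⟨c, hc⟩ := minpoly.mem_range_of_degree_eq_one k (residue V z)
    (IsAlgClosed.degree_eq_one_of_irreducible k (minpoly.irreducible hint))
  refine ⟨c, ?_⟩
  rw [not_isUnit_iff_residue, map_sub, ← hc, sub_eq_zero]
  rfl

/-- The quadratic transform at a rational point of the exceptional line. -/
theorem IsPoint.step {A : Subalgebra k V} (hA : IsPoint A) {x y s : V} (hx : x ∈ A) (hxu : ¬IsUnit x)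
    (hy : y = x * s) (hgen : ∀ a ∈ A, ¬IsUnit a → ∃ p q, p ∈ A ∧ q ∈ A ∧ a = p * x + q * y)
    {c : k} (hc : ¬IsUnit (s - algebraMap k V c)) : IsPoint (unitLoc (adjoinElt A s)) := by
  set B := adjoinElt A s
  refine ⟨?_, ?_, ?_, ?_⟩
  · rintro z ⟨f, g, hf, hg, hu, he⟩ hz
    have hfu : IsUnit f := he ▸ hz.mul hu
    obtain ⟨zi, hzi⟩ := hz.exists_right_inv
    refine ⟨zi, ⟨g, f, hg, hf, hfu, ?_⟩, hzi⟩
    calc zi * f = (z * zi) * g := by rw [← he]; ring
      _ = g := by rw [hzi, one_mul]
  · refine ⟨x, s - algebraMap k V c, le_unitLoc _ (le_adjoinElt A s hx),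
      le_unitLoc _ (sub_mem (self_mem_adjoinElt A s) (B.algebraMap_mem c)), hxu, hc, ?_⟩
    rintro z ⟨f, g, ⟨P, hP⟩, hg, hu, he⟩ hz
    have hfn : ¬IsUnit f := fun h => hz (isUnit_of_mul_isUnit_left (he ▸ h))
    obtain ⟨Q, hQ⟩ := Polynomial.X_sub_C_dvd_sub_C_eval (p := P) (a := algebraMap k A c)
    have hf0 : f = ((P.eval (algebraMap k A c) : A) : V) + (s - algebraMap k V c) * Polynomial.aeval s Q := by
      have := congrArg (Polynomial.aeval s) hQ
      simp only [map_sub, map_mul, Polynomial.aeval_X, Polynomial.aeval_C] at this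
      rw [← hP, ← sub_eq_iff_eq_add']
      exact this
    have hmem : ((P.eval (algebraMap k A c) : A) : V) ∈ A := (P.eval (algebraMap k A c)).2
    have hn : ¬IsUnit ((P.eval (algebraMap k A c) : A) : V) := by
      rw [not_isUnit_iff_residue] at hfn hc ⊢
      rwa [hf0, map_add, map_mul, hc, zero_mul, add_zero] at hfn
    obtain ⟨p, q, hp, hq, hpq⟩ := hgen _ hmem hn
    obtain ⟨gi, hgi⟩ := hu.exists_right_inv
    refine ⟨(p + q * s) * gi, Polynomial.aeval s Q * gi, ?_, ?_, ?_⟩
    · exact ⟨p + q * s, g, add_mem (le_adjoinElt A s hp) (mul_mem (le_adjoinElt A s hq) (self_mem_adjoinElt A s)),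
        hg, hu, by rw [mul_assoc, mul_comm gi g, hgi, mul_one]⟩
    · exact ⟨Polynomial.aeval s Q, g, ⟨Q, rfl⟩, hg, hu, by rw [mul_assoc, mul_comm gi g, hgi, mul_one]⟩
    · calc z = z * g * gi := by rw [mul_assoc, hgi, mul_one]
        _ = f * gi := by rw [he]
        _ = _ := by rw [hf0, hpq, hy]; ring
  · rintro z ⟨f, g, ⟨P, hP⟩, ⟨Q, hQ⟩, hu, he⟩
    have hev : ∀ R : Polynomial A, ∃ a : k, residue V (Polynomial.aeval s R) = algebraMap k _ a := fun R => by
      induction R using Polynomial.induction_on' with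
      | add p q hp hq =>
        obtain ⟨a, ha⟩ := hp; obtain ⟨b, hb⟩ := hq
        exact ⟨a + b, by rw [map_add, map_add, ha, hb, map_add]⟩
      | monomial n a =>
        obtain ⟨a', ha'⟩ := hA.res a a.2
        refine ⟨a' * c ^ n, ?_⟩
        rw [Polynomial.aeval_monomial, map_mul, map_pow, residue_eq_of_not_isUnit_sub hc,
          map_mul (algebraMap k (ResidueField V)), map_pow (algebraMap k (ResidueField V))]
        congr 1
        exact residue_eq_of_not_isUnit_sub ha'
    replace hP : Polynomial.aeval s P = f := hP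
    replace hQ : Polynomial.aeval s Q = g := hQ
    obtain ⟨a, ha⟩ := hev P
    obtain ⟨b, hb⟩ := hev Q
    rw [hP] at ha
    rw [hQ] at hb
    have hb0 : b ≠ 0 := by
      rintro rfl
      rw [map_zero, ← not_isUnit_iff_residue] at hb
      exact hb hu
    refine ⟨a / b, ?_⟩
    rw [not_isUnit_iff_residue, map_sub, sub_eq_zero]
    have h1 := congrArg (residue V) he
    rw [map_mul, ha, hb] at h1
    show residue V z = algebraMap k (ResidueField V) (a / b)
    rw [map_div₀, eq_div_iff (by simpa using hb0)]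
    exact h1
  · intro z
    obtain ⟨a, b, ha, hb, hb0, he⟩ := hA.frac z
    exact ⟨a, b, le_unitLoc _ (le_adjoinElt A s ha), le_unitLoc _ (le_adjoinElt A s hb), hb0, he⟩

/-- At the generic point of the exceptional line, the transform is the valuation ring. -/
theorem IsPoint.nonempty_ratFunc_hom {A : Subalgebra k V} (hA : IsPoint A) {x y s : V} (hx : x ∈ A)
    (hxu : ¬IsUnit x) (hx0 : x ≠ 0) (hy : y = x * s)
    (hgen : ∀ a ∈ A, ¬IsUnit a → ∃ p q, p ∈ A ∧ q ∈ A ∧ a = p * x + q * y)
    (hs : Transcendental k (residue V s)) : Nonempty (ResidueField V →ₐ[k] RatFunc k) := by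
  classical
  set B := adjoinElt A s
  choose! χ hχ using fun a (ha : a ∈ A) => hA.res a ha
  have hev : ∀ R : Polynomial A, ∃ R₀ : Polynomial k, residue V (Polynomial.aeval s R) =
      Polynomial.aeval (residue V s) R₀ ∧ ∀ n, R₀.coeff n = χ (R.coeff n) * 1 := fun R => by
    refine ⟨∑ n ∈ Finset.range (R.natDegree + 1), Polynomial.monomial n (χ (R.coeff n)), ?_, fun n => ?_⟩
    · rw [Polynomial.aeval_eq_sum_range, map_sum, map_sum]
      refine Finset.sum_congr rfl fun n _ => ?_
      rw [Polynomial.aeval_monomial]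
      show residue V ((R.coeff n : V) * s ^ n) = _
      rw [map_mul, map_pow, residue_eq_of_not_isUnit_sub (hχ _ (R.coeff n).2)]
    · rw [Polynomial.finsetSum_coeff, mul_one]
      simp only [Polynomial.coeff_monomial]
      rw [Finset.sum_ite_eq']
      split_ifs with h
      · rfl
      · have h0 : R.coeff n = 0 := Polynomial.coeff_eq_zero_of_natDegree_lt (by simp at h; omega)
        rw [h0]
        have := hχ (0 : V) (zero_mem A)
        rw [not_isUnit_iff_residue, map_sub, map_zero, zero_sub, neg_eq_zero] at this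
        have h1 : algebraMap k (ResidueField V) (χ 0) = 0 := this
        exact ((map_eq_zero_iff _ (algebraMap k (ResidueField V)).injective).1 h1).symm
  have key : ∀ f ∈ B, f ≠ 0 → ∃ (i : ℕ) (g : V), g ∈ B ∧ IsUnit g ∧ f = x ^ i * g := by
    obtain ⟨ϖ, hϖ⟩ := IsDiscreteValuationRing.exists_irreducible V
    suffices h : ∀ (n : ℕ) (f : V), f ∈ B → Associated f (ϖ ^ n) →
        ∃ (i : ℕ) (g : V), g ∈ B ∧ IsUnit g ∧ f = x ^ i * g from
      fun f hf hf0 => let ⟨n, hn⟩ := IsDiscreteValuationRing.associated_pow_irreducible hf0 hϖ; h n f hf hn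
    intro n
    induction n using Nat.strong_induction_on with
    | h n ih =>
      intro f hf hn
      by_cases hu : IsUnit f
      · exact ⟨0, f, hf, hu, by simp⟩
      obtain ⟨P, hP⟩ := hf
      have hcoeff : ∀ j, ¬IsUnit ((P.coeff j : A) : V) := fun j => by
        obtain ⟨R₀, h1, h2⟩ := hev P
        rw [show Polynomial.aeval s P = f from hP, (not_isUnit_iff_residue f).1 hu] at h1
        have hR : R₀ = 0 := by
          by_contra h0
          exact hs ⟨R₀, h0, h1.symm⟩
        have := h2 j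
        rw [hR, Polynomial.coeff_zero, mul_one] at this
        rw [not_isUnit_iff_residue, residue_eq_of_not_isUnit_sub (hχ _ (P.coeff j).2), ← this, map_zero]
      choose p q hp hq hpq using fun j => hgen _ (P.coeff j).2 (hcoeff j)
      have hf' : f = x * ∑ j ∈ Finset.range (P.natDegree + 1), (p j + q j * s) * s ^ j := by
        rw [← hP]
        show Polynomial.aeval s P = _
        rw [Polynomial.aeval_eq_sum_range, Finset.mul_sum]
        refine Finset.sum_congr rfl fun j _ => ?_
        show ((P.coeff j : A) : V) * s ^ j = _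
        rw [hpq j, hy]
        ring
      set f' := ∑ j ∈ Finset.range (P.natDegree + 1), (p j + q j * s) * s ^ j
      have hf'B : f' ∈ B := sum_mem fun j _ => mul_mem (add_mem (le_adjoinElt A s (hp j))
        (mul_mem (le_adjoinElt A s (hq j)) (self_mem_adjoinElt A s))) (pow_mem (self_mem_adjoinElt A s) j)
      have hf0 : f ≠ 0 := fun h => by
        rw [h] at hn
        exact pow_ne_zero n hϖ.ne_zero ((associated_zero_iff_eq_zero _).1 hn.symm)
      have hf'0 : f' ≠ 0 := fun h => hf0 (by rw [hf', h, mul_zero])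
      obtain ⟨j, hj⟩ := IsDiscreteValuationRing.associated_pow_irreducible hx0 hϖ
      obtain ⟨n', hn'⟩ := IsDiscreteValuationRing.associated_pow_irreducible hf'0 hϖ
      have hj0 : j ≠ 0 := fun h => hxu (by rw [h, pow_zero] at hj; exact associated_one_iff_isUnit.1 hj)
      have hsum : Associated (ϖ ^ n) (ϖ ^ (j + n')) := by
        rw [pow_add]
        exact hn.symm.trans (hf' ▸ hj.mul_mul hn')
      have hne : n = j + n' := by
        have h1 := (pow_dvd_pow_iff hϖ.ne_zero hϖ.not_isUnit).1 hsum.dvd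
        have h2 := (pow_dvd_pow_iff hϖ.ne_zero hϖ.not_isUnit).1 hsum.symm.dvd
        omega
      obtain ⟨i, g, hg, hgu, he⟩ := ih n' (by omega) f' hf'B hn'
      exact ⟨i + 1, g, hg, hgu, by rw [hf', he, pow_succ]; ring⟩
  have hinj : Function.Injective (Polynomial.aeval (R := k) (residue V s)) := transcendental_iff_injective.1 hs
  let φ : RatFunc k →ₐ[k] ResidueField V := RatFunc.liftAlgHom (Polynomial.aeval (residue V s))
    (nonZeroDivisors_le_comap_nonZeroDivisors_of_injective _ hinj)
  have hB : ∀ f ∈ B, ∃ R₀ : Polynomial k, residue V f = φ (algebraMap (Polynomial k) (RatFunc k) R₀) := by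
    rintro f ⟨P, rfl⟩
    obtain ⟨R₀, h1, -⟩ := hev P
    refine ⟨R₀, h1.trans ?_⟩
    simp [φ, RatFunc.liftAlgHom_apply]
  have hsurj : Function.Surjective φ := by
    intro w
    obtain ⟨z, rfl⟩ := residue_surjective w
    by_cases hz : IsUnit z
    · obtain ⟨a, b, ha, hb, hb0, he⟩ := hA.frac z
      obtain ⟨i, g, hg, hgu, hbg⟩ := key b (le_adjoinElt A s hb) hb0
      have ha0 : a ≠ 0 := fun h => by
        rw [h] at he
        exact (mul_ne_zero hz.ne_zero hb0) he
      obtain ⟨j, g', hg', hgu', hag⟩ := key a (le_adjoinElt A s ha) ha0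
      have hij : j = i := by
        obtain ⟨ϖ, hϖ⟩ := IsDiscreteValuationRing.exists_irreducible V
        have h1 : Associated (x ^ j) (x ^ i) := by
          have e1 : Associated (x ^ j * g') (x ^ i * g) := by
            rw [← hag, ← hbg, ← he]
            exact associated_unit_mul_left b z hz
          exact ((associated_mul_unit_left (x ^ j) g' hgu').symm.trans e1).trans (associated_mul_unit_left (x ^ i) g hgu)
        have h2 := (pow_dvd_pow_iff hx0 hxu).1 h1.dvd
        have h3 := (pow_dvd_pow_iff hx0 hxu).1 h1.symm.dvd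
        omega
      subst hij
      obtain ⟨R, hR⟩ := hB g hg
      obtain ⟨R', hR'⟩ := hB g' hg'
      refine ⟨algebraMap (Polynomial k) (RatFunc k) R' / algebraMap (Polynomial k) (RatFunc k) R, ?_⟩
      have hzg : z * g = g' := by
        refine mul_left_cancel₀ (pow_ne_zero j hx0) ?_
        rw [← hag, ← he, hbg]
        ring
      rw [map_div₀, ← hR, ← hR', ← hzg, map_mul, mul_div_assoc, div_self, mul_one]
      exact fun h => ((not_isUnit_iff_residue g).2 h) hgu
    · exact ⟨0, by rw [map_zero, (not_isUnit_iff_residue z).1 hz]⟩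
  exact ⟨(AlgEquiv.ofBijective φ ⟨φ.toRingHom.injective, hsurj⟩).symm.toAlgHom⟩

/-- **The residue field of a divisorial valuation over a point of a surface is rational.** -/
theorem nonempty_residue_hom_ratFunc [IsAlgClosed k] {A : Subalgebra k V} (hA : IsPoint A) (t : V)
    (ht : Transcendental k (residue V t)) : Nonempty (ResidueField V →ₐ[k] RatFunc k) := by
  obtain ⟨ϖ, hϖ⟩ := IsDiscreteValuationRing.exists_irreducible V
  suffices h : ∀ (n : ℕ) (A : Subalgebra k V), IsPoint A →
      ∀ a b : V, a ∈ A → b ∈ A → t * b = a → Associated b (ϖ ^ n) → Nonempty (ResidueField V →ₐ[k] RatFunc k) by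
    obtain ⟨a, b, ha, hb, hb0, he⟩ := hA.frac t
    obtain ⟨n, hn⟩ := IsDiscreteValuationRing.associated_pow_irreducible hb0 hϖ
    exact h n A hA a b ha hb he hn
  clear hA A
  intro n
  induction n using Nat.strong_induction_on with
  | h n ih =>
    intro A hA a b ha hb he hn
    have hb0 : b ≠ 0 := fun h => by
      rw [h] at hn
      exact pow_ne_zero n hϖ.ne_zero ((associated_zero_iff_eq_zero _).1 hn.symm)
    have hbu : ¬IsUnit b := fun hu => by
      obtain ⟨b', hb', hbb'⟩ := hA.unit b hb hu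
      have ht' : t = a * b' := by rw [← he, mul_assoc, hbb', mul_one]
      obtain ⟨c, hc⟩ := hA.res t (ht' ▸ mul_mem ha hb')
      exact ht ((residue_eq_of_not_isUnit_sub hc) ▸ isAlgebraic_algebraMap c)
    have hau : ¬IsUnit a := fun h => hbu (isUnit_of_mul_isUnit_right (he ▸ h))
    obtain ⟨x₀, y₀, hx₀, hy₀, hxu₀, hyu₀, hgen₀⟩ := hA.gen
    obtain ⟨x, y, hx, hxu, ⟨s, hys⟩, hgen⟩ : ∃ x y, x ∈ A ∧ ¬IsUnit x ∧ x ∣ y ∧
        ∀ a ∈ A, ¬IsUnit a → ∃ p q, p ∈ A ∧ q ∈ A ∧ a = p * x + q * y := by
      rcases ValuationRing.dvd_total x₀ y₀ with h | h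
      · exact ⟨x₀, y₀, hx₀, hxu₀, h, hgen₀⟩
      · exact ⟨y₀, x₀, hy₀, hyu₀, h, fun a ha hau =>
          let ⟨p, q, hp, hq, e⟩ := hgen₀ a ha hau; ⟨q, p, hq, hp, by rw [e, add_comm]⟩⟩
    obtain ⟨p, q, hp, hq, hpq⟩ := hgen a ha hau
    obtain ⟨p', q', hp', hq', hpq'⟩ := hgen b hb hbu
    have hx0 : x ≠ 0 := fun h => hb0 (by rw [hpq', hys, h]; ring)
    by_cases hs : IsAlgebraic k (residue V s)
    · obtain ⟨c, hc⟩ := residue_mem_range hs
      have hA' := hA.step hx hxu hys hgen hc
      have hb' : b = x * (p' + q' * s) := by rw [hpq', hys]; ring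
      have hb'0 : p' + q' * s ≠ 0 := fun h => hb0 (by rw [hb', h, mul_zero])
      obtain ⟨j, hj⟩ := IsDiscreteValuationRing.associated_pow_irreducible hx0 hϖ
      obtain ⟨n', hn'⟩ := IsDiscreteValuationRing.associated_pow_irreducible hb'0 hϖ
      have hj0 : j ≠ 0 := fun h => hxu (by rw [h, pow_zero] at hj; exact associated_one_iff_isUnit.1 hj)
      have hsum : Associated (ϖ ^ n) (ϖ ^ (j + n')) := by
        rw [pow_add]
        exact hn.symm.trans (hb' ▸ hj.mul_mul hn')
      have hne : n = j + n' := by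
        have h1 := (pow_dvd_pow_iff hϖ.ne_zero hϖ.not_isUnit).1 hsum.dvd
        have h2 := (pow_dvd_pow_iff hϖ.ne_zero hϖ.not_isUnit).1 hsum.symm.dvd
        omega
      have hmem : ∀ p q, p ∈ A → q ∈ A → p + q * s ∈ unitLoc (adjoinElt A s) := fun p q hp hq =>
        le_unitLoc _ (add_mem (le_adjoinElt A s hp) (mul_mem (le_adjoinElt A s hq) (self_mem_adjoinElt A s)))
      refine ih n' (by omega) _ hA' (p + q * s) (p' + q' * s) (hmem p q hp hq) (hmem p' q' hp' hq') ?_ hn'
      refine mul_left_cancel₀ hx0 ?_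
      rw [mul_left_comm, ← hb', he, hpq, hys]
      ring
    · exact hA.nonempty_ratFunc_hom hx hxu hx0 hys hgen hs

end Groth.Agent.RatRes42
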