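import Groth.Agent.RatRes42.Glue

/-!
# Rational curves through the value of a rational map along a curve
-/

set_option autoImplicit false
set_option linter.style.haveILetI false

universe u

open CategoryTheory CategoryTheory.Limits AlgebraicGeometry IsLocalRing
open HomogeneousLocalization (Away)

namespace Groth.Agent.RatRes42

open Groth.Agent.ZetaLib

section Ring

variable {n : ℕ} {k : Type u} [Field k] [IsAlgClosed k]
variable {A : Type u} [CommRing A] [IsDomain A] [IsLocalRing A] [Algebra k A]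
variable {K : Type u} [Field K] [Algebra A K] [IsFractionRing A K] [Algebra k K] [IsScalarTower k A K]
variable {X : Scheme.{u}} (ι : X ⟶ CohB1.ProjSpace n k) [IsClosedImmersion ι]

theorem isDominant_spec {R L : Type u} [CommRing R] [CommRing L] (f : R →+* L) (hf : Function.Injective f) :
    IsDominant (Spec.map (CommRingCat.ofHom f)) := by
  refine ⟨?_⟩
  show DenseRange (PrimeSpectrum.comap f)
  rw [PrimeSpectrum.denseRange_comap_iff_ker_le_nilRadical]
  intro z hz
  rw [RingHom.mem_ker, map_eq_zero_iff f hf] at hz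
  rw [hz]
  exact zero_mem _

/-- If a rational map is constantly `p` along a curve germ through an indeterminacy point, then a
rational curve goes through `p`. -/
theorem exists_line_through_of_germ (hcat : CAlg.IsUniversallyCatenary A) {x y : A}
    (hxy : maximalIdeal A = Ideal.span {x, y}) (hres : ∀ a : A, ∃ c : k, a - algebraMap k A c ∈ maximalIdeal A)
    [UniqueFactorizationMonoid A] (hdim : (maximalIdeal A).height = 2)
    (φ : Spec (CommRingCat.of K) ⟶ X) (hX : IsProper (ι ≫ CohB1.ProjSpace.toSpec n k))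
    (a : Fin (n + 1) → A) (hred : ∀ π : A, Prime π → ∃ j, ¬ π ∣ a j) (hall : ∀ j, a j ∈ maximalIdeal A)
    (hne : ∃ i, a i ≠ 0) (hφ : ∀ (i : Fin (n + 1)) (hi : a i ≠ 0), φ ≫ ι = coordsAt a i hi)
    -- the curve germ
    {O : Type u} [CommRing O] [IsLocalRing O] (hO : ¬ IsField O) {L : Type u} [Field L]
    (j : O →+* L) (hj : Function.Injective j)
    (θ : A →+* O) [IsLocalHom θ] (hθ : Function.Surjective θ)
    {A' : Type u} [CommRing A'] (eA : A →+* A') (eK : A' →+* K) (heK : Function.Injective eK)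
    (hcomp : eK.comp eA = algebraMap A K) (ρ : A' →+* L) (hρ : ∀ z, ρ z ≠ 0 → IsUnit z)
    (hcompρ : ρ.comp eA = j.comp θ)
    (G : Spec (CommRingCat.of A') ⟶ X) (hG : Spec.map (CommRingCat.ofHom eK) ≫ G = φ)
    (p : Spec (CommRingCat.of k) ⟶ X) (hp : p ≫ ι ≫ CohB1.ProjSpace.toSpec n k = 𝟙 _)
    (hGp : Spec.map (CommRingCat.ofHom ρ) ≫ G =
      Spec.map (CommRingCat.ofHom ((j.comp θ).comp (algebraMap k A))) ≫ p) :
    ∃ g : CohB1.ProjSpace 1 k ⟶ X, g ≫ ι ≫ CohB1.ProjSpace.toSpec n k = CohB1.ProjSpace.toSpec 1 k ∧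
      (∃ z, g z = p (closedPoint k)) ∧ ¬ ∃ z : X, Set.range g ⊆ {z} := by
  classical
  haveI := hX
  haveI hXs : X.IsSeparated := ⟨by
    rw [show terminal.from X = (ι ≫ CohB1.ProjSpace.toSpec n k) ≫ terminal.from _ from terminal.hom_ext _ _]
    infer_instance⟩
  haveI : IsDomain O := hj.isDomain j
  haveI : IsDomain A' := heK.isDomain eK
  -- some coordinate does not vanish on the curve
  obtain ⟨i₀, hi₀⟩ : ∃ i, θ (a i) ≠ 0 := by
    by_contra! hcon
    haveI : IsNoetherianRing A := hcat.1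
    obtain ⟨r, hr⟩ := exists_pow_le_span hdim.le a hne hred
    refine hO (IsLocalRing.isField_iff_maximalIdeal_eq.2 (eq_bot_iff.2 fun z hz => ?_))
    obtain ⟨w, rfl⟩ := hθ z
    have hw : w ∈ maximalIdeal A := fun hu => hz (hu.map θ)
    have hle : Ideal.span (Set.range a) ≤ RingHom.ker θ := Ideal.span_le.2 (by
      rintro _ ⟨i, rfl⟩
      exact hcon i)
    exact ((RingHom.ker_isPrime θ).mem_of_pow_mem r (hle (hr (Ideal.pow_mem_pow hw r))) : w ∈ RingHom.ker θ)
  have h0 : a i₀ ≠ 0 := fun h => hi₀ (by rw [h, map_zero])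
  let B := chartAlg K a i₀
  obtain ⟨u, hu⟩ : IsUnit (eA (a i₀)) := hρ _ fun h => hi₀ (hj (by
    rw [map_zero, ← h]
    exact (RingHom.congr_fun hcompρ (a i₀)).symm))
  have hmemB : ∀ b : B, (b : K) ∈ eK.range := by
    rintro ⟨z, hz⟩
    induction hz using Algebra.adjoin_induction with
    | mem z hz =>
      obtain ⟨l, rfl⟩ := hz
      refine ⟨eA (a l) * ↑u⁻¹, ?_⟩
      rw [map_mul, eq_div_iff ((map_ne_zero_iff _ (IsFractionRing.injective A K)).2 h0), mul_assoc]
      conv_lhs => rw [← hcomp, RingHom.comp_apply, ← hu, ← map_mul, Units.inv_mul, map_one, mul_one]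
      exact RingHom.congr_fun hcomp (a l)
    | algebraMap z => exact ⟨eA z, RingHom.congr_fun hcomp z⟩
    | add z w _ _ h h' => exact add_mem h h'
    | mul z w _ _ h h' => exact mul_mem h h'
  let e₀ : B →+* A' := (RingEquiv.ofBijective eK.rangeRestrict
    ⟨fun a b h => heK (congrArg Subtype.val h), eK.rangeRestrict_surjective⟩).symm.toRingHom.comp
      (B.val.toRingHom.codRestrict eK.range hmemB)
  have he₀ : ∀ b : B, eK (e₀ b) = (b : K) := fun b =>
    congrArg Subtype.val ((RingEquiv.ofBijective eK.rangeRestrict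
      ⟨fun a b h => heK (congrArg Subtype.val h), eK.rangeRestrict_surjective⟩).apply_symm_apply
        ((B.val.toRingHom.codRestrict eK.range hmemB) b))
  have he₀A : ∀ z : A, e₀ (algebraMap A B z) = eA z := fun z => heK (by
    rw [he₀]
    exact (RingHom.congr_fun hcomp z).symm)
  obtain ⟨Φ, h, hΦc, hΦ, hh, hhφ⟩ := exists_chart_map ι φ a i₀ h0 (hφ i₀ h0)
  have hagree : Spec.map (CommRingCat.ofHom e₀) ≫ h = G := by
    haveI := isDominant_spec eK heK
    refine ext_of_isDominant (Spec.map (CommRingCat.ofHom eK)) ?_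
    rw [hG, ← Category.assoc, ← Spec.map_comp, ← hhφ]
    exact congrArg (fun f => Spec.map (CommRingCat.ofHom f) ≫ h) (RingHom.ext he₀)
  -- the values of the coordinates along the curve are constant
  let αL : k →+* L := (j.comp θ).comp (algebraMap k A)
  let ψ : B →+* L := ρ.comp e₀
  have hψA : ∀ z : A, ψ (algebraMap A B z) = j (θ z) := fun z => by
    show ρ (e₀ (algebraMap A B z)) = _
    rw [he₀A]
    exact RingHom.congr_fun hcompρ z
  have hψh : Spec.map (CommRingCat.ofHom ψ) ≫ h = Spec.map (CommRingCat.ofHom αL) ≫ p := by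
    rw [← hGp, ← hagree, ← Category.assoc, ← Spec.map_comp]
    rfl
  have hpr : Set.range (p ≫ ι) ⊆ Set.range (chart n k i₀) := by
    rintro _ ⟨z, rfl⟩
    have h1 := congrArg (fun f => (f ≫ ι) (closedPoint L)) hψh
    simp only [Category.assoc] at h1
    rw [hh, ← Category.assoc] at h1
    refine ⟨(Spec.map (CommRingCat.ofHom ψ) ≫ Spec.map (CommRingCat.ofHom Φ)) (closedPoint L), ?_⟩
    rw [← Scheme.Hom.comp_apply, h1, Scheme.Hom.comp_apply]
    congr 1
    exact Subsingleton.elim (α := PrimeSpectrum k) _ _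
  let e : Away (CohB1.polyGrading n k) (MvPolynomial.X i₀) →+* k :=
    (Spec.preimage (IsOpenImmersion.lift (chart n k i₀) (p ≫ ι) hpr)).hom
  have he : Spec.map (CommRingCat.ofHom e) ≫ chart n k i₀ = p ≫ ι := by
    rw [CommRingCat.ofHom_hom, Spec.map_preimage, IsOpenImmersion.lift_fac]
  have hψΦ : ψ.comp Φ = αL.comp e := by
    have h1 : Spec.map (CommRingCat.ofHom (ψ.comp Φ)) = Spec.map (CommRingCat.ofHom (αL.comp e)) := by
      rw [← cancel_mono (chart n k i₀)]
      simp only [CommRingCat.ofHom_comp, Spec.map_comp, Category.assoc]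
      rw [← hh, ← Category.assoc, hψh, Category.assoc, he]
    exact congrArg CommRingCat.Hom.hom (Spec.map_injective h1)
  have hψcoord : ∀ l, ψ (chartCoord K a i₀ l) = αL (e (coord n k i₀ l)) := fun l => by
    rw [← hΦ l]
    exact RingHom.congr_fun hψΦ _
  have hψO : ∀ b : B, ψ b ∈ j.range := by
    rintro ⟨z, hz⟩
    induction hz using Algebra.adjoin_induction with
    | mem z hz =>
      obtain ⟨l, rfl⟩ := hz
      exact ⟨θ (algebraMap k A (e (coord n k i₀ l))), (hψcoord l).symm⟩
    | algebraMap z => exact ⟨θ z, (hψA z).symm⟩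
    | add z w hz' hw' h h' =>
      have h2 := add_mem h h'
      rwa [← map_add] at h2
    | mul z w hz' hw' h h' =>
      have h2 := mul_mem h h'
      rwa [← map_mul] at h2
  let ψ' : B →+* O := (RingEquiv.ofBijective j.rangeRestrict
    ⟨fun a b h => hj (congrArg Subtype.val h), j.rangeRestrict_surjective⟩).symm.toRingHom.comp
      (ψ.codRestrict j.range hψO)
  have hψ' : ∀ b : B, j (ψ' b) = ψ b := fun b =>
    congrArg Subtype.val ((RingEquiv.ofBijective j.rangeRestrict
      ⟨fun a b h => hj (congrArg Subtype.val h), j.rangeRestrict_surjective⟩).apply_symm_apply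
        ((ψ.codRestrict j.range hψO) b))
  have hψ'A : ∀ z : A, ψ' (algebraMap A B z) = θ z := fun z => hj ((hψ' _).trans (hψA z))
  let Q : Ideal B := (maximalIdeal O).comap ψ'
  haveI : Q.IsPrime := Ideal.IsPrime.comap ψ'
  have hQm : Q.comap (algebraMap A B) = maximalIdeal A := by
    ext z
    simp only [Q, Ideal.mem_comap, hψ'A, mem_maximalIdeal, mem_nonunits_iff, isUnit_map_iff]
  have hQ : ∀ b, ∃ c : k, b - algebraMap A B (algebraMap k A c) ∈ Q := fun b => by
    obtain ⟨w, hw⟩ := hθ (ψ' b)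
    obtain ⟨c, hc⟩ := hres w
    refine ⟨c, ?_⟩
    rw [Ideal.mem_comap, map_sub, hψ'A, ← hw, ← map_sub]
    exact map_nonunit θ _ hc
  obtain ⟨Φ', h', hΦ'b, hΦ'c, hh', g, hg, hgQ, hgn⟩ := exists_line_of_indet ι hcat hxy hres hdim φ hX a hred hall i₀ h0
    (hφ i₀ h0) Q hQm hQ
  refine ⟨g, hg, ?_, hgn⟩
  obtain ⟨z, hz⟩ := hgQ
  refine ⟨z, hz.trans ?_⟩
  -- identify the two chart maps
  have hhh : h' = h := by
    haveI := isDominant_spec B.val.toRingHom Subtype.val_injective
    have hval : B.val.toRingHom.comp Φ' = B.val.toRingHom.comp Φ :=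
      ringHom_eq_iff i₀ (RingHom.ext fun c => congrArg Subtype.val ((hΦ'b c).trans (hΦc c).symm))
        fun l => congrArg Subtype.val ((hΦ'c l).trans (hΦ l).symm)
    rw [← cancel_mono ι, hh, hh', show Φ' = Φ from RingHom.ext fun z => Subtype.ext (RingHom.congr_fun hval z)]
  have hQp : Spec.map (CommRingCat.ofHom ψ') ≫ h = Spec.map (CommRingCat.ofHom (θ.comp (algebraMap k A))) ≫ p := by
    haveI := isDominant_spec j hj
    refine ext_of_isDominant (Spec.map (CommRingCat.ofHom j)) ?_
    rw [← Category.assoc, ← Category.assoc, ← Spec.map_comp, ← Spec.map_comp]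
    refine Eq.trans ?_ hψh
    exact congrArg (fun f => Spec.map (CommRingCat.ofHom f) ≫ h) (RingHom.ext hψ')
  rw [hhh]
  show h (Spec.map (CommRingCat.ofHom ψ') (closedPoint O)) = _
  rw [← Scheme.Hom.comp_apply, hQp, Scheme.Hom.comp_apply]
  congr 1
  exact Subsingleton.elim (α := PrimeSpectrum k) _ _

end Ring

section Scheme

variable {k : Type u} [Field k] [IsAlgClosed k] {S : Scheme.{u}} [IsIntegral S]
  (f : S ⟶ Spec (CommRingCat.of k)) [Smooth f]
variable {n : ℕ} {X : Scheme.{u}} (ι : X ⟶ CohB1.ProjSpace n k) [IsClosedImmersion ι]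

/-- An indeterminacy point on a curve contracted to `p` gives a rational curve through `p`. -/
theorem exists_line_through_of_undef (hdim : topologicalKrullDim S = 2)
    [IsProper (ι ≫ CohB1.ProjSpace.toSpec n k)] (φ₀ : Spec S.functionField ⟶ X)
    (hφ₀ : φ₀ ≫ ι ≫ CohB1.ProjSpace.toSpec n k = S.fromSpecStalk (genericPoint S) ≫ f)
    {D : Scheme.{u}} [IsIntegral D] (σ : D ⟶ S) [IsClosedImmersion σ] [Smooth (σ ≫ f)]
    (hD : topologicalKrullDim D = 1) (p : Spec (CommRingCat.of k) ⟶ X)
    (hp : p ≫ ι ≫ CohB1.ProjSpace.toSpec n k = 𝟙 _)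
    (W : S.Opens) (hW : genericPoint S ∈ W) (hσW : σ (genericPoint D) ∈ W) (H : W.toScheme ⟶ X)
    (hH₀ : W.fromSpecStalkOfMem (genericPoint S) hW ≫ H = φ₀)
    (hHσ : σ ∣_ W ≫ H = (σ ⁻¹ᵁ W).ι ≫ (σ ≫ f) ≫ p)
    (y : D) (hy : IsClosed ({y} : Set D)) (hu : IsUndefAt f ι φ₀ (σ y)) :
    ∃ g : CohB1.ProjSpace 1 k ⟶ X, g ≫ ι ≫ CohB1.ProjSpace.toSpec n k = CohB1.ProjSpace.toSpec 1 k ∧
      (∃ z, g z = p (closedPoint k)) ∧ ¬ ∃ z : X, Set.range g ⊆ {z} := by
  have hx : IsClosed ({σ y} : Set S) := by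
    rw [← Set.image_singleton]
    exact σ.isClosedEmbedding.isClosedMap _ hy
  obtain ⟨hdom, hufd, hcat, hht, u, v, huv⟩ := surface_point f hdim (σ y) hx
  haveI := hdom
  haveI := hufd
  letI := algA f (σ y); letI := algK f; haveI := isScalarTower_algA f (σ y)
  obtain ⟨a, hred, hall, hne, hφ⟩ := exists_coords_of_undef f ι φ₀ hφ₀ (σ y) hu
  have hres : ∀ b : S.presheaf.stalk (σ y), ∃ c : k,
      b - algebraMap k _ c ∈ maximalIdeal (S.presheaf.stalk (σ y)) :=
    exists_sub_const_mem f (σ y) hx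
  haveI : LocallyOfFiniteType (σ ≫ f) := inferInstance
  have hO : ¬ IsField (D.presheaf.stalk y) := fun h => by
    have h1 := (SmoothReg.ringKrullDim_stalk_closedPoint (σ ≫ f) hy).trans hD
    rw [ringKrullDim_eq_zero_of_isField h] at h1
    exact zero_ne_one h1
  have hgD : genericPoint D ⤳ y := genericPoint_specializes y
  have hgS : σ (genericPoint D) ⤳ σ y := hgD.map σ.continuous
  refine exists_line_through_of_germ ι hcat huv hres hht φ₀ inferInstance a hred hall hne hφ
    hO (D.presheaf.stalkSpecializes hgD).hom (IsFractionRing.injective (D.presheaf.stalk y) D.functionField)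
    (σ.stalkMap y).hom (σ.stalkMap_surjective y)
    (S.presheaf.stalkSpecializes hgS).hom
    (S.presheaf.stalkSpecializes (genericPoint_specializes (σ (genericPoint D)))).hom
    (IsFractionRing.injective (S.presheaf.stalk (σ (genericPoint D))) S.functionField) ?_
    (σ.stalkMap (genericPoint D)).hom (fun z hz => ?_) ?_
    (W.fromSpecStalkOfMem (σ (genericPoint D)) hσW ≫ H) ?_ p hp ?_
  · rw [← CommRingCat.hom_comp, TopCat.Presheaf.stalkSpecializes_comp]
    rfl
  · by_contra hn
    have hm : (σ.stalkMap (genericPoint D)).hom z ∈ maximalIdeal (D.presheaf.stalk (genericPoint D)) :=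
      map_nonunit _ _ hn
    rw [isField_iff_maximalIdeal_eq.1 (Field.toIsField D.functionField), Ideal.mem_bot] at hm
    exact hz hm
  · rw [← CommRingCat.hom_comp, ← CommRingCat.hom_comp, Scheme.Hom.stalkSpecializes_stalkMap]
  · rw [CommRingCat.ofHom_hom, ← Category.assoc]
    rw [H23.RatExtend.specializes_comp_fromSpecStalkOfMem W (genericPoint_specializes (σ (genericPoint D))) hσW hW]
    exact hH₀
  · have e1 : Spec.map (σ.stalkMap (genericPoint D)) ≫ W.fromSpecStalkOfMem (σ (genericPoint D)) hσW =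
        (σ ⁻¹ᵁ W).fromSpecStalkOfMem (genericPoint D) hσW ≫ σ ∣_ W := by
      rw [← cancel_mono W.ι, Category.assoc, Category.assoc, morphismRestrict_ι,
        Scheme.Opens.fromSpecStalkOfMem_ι, Scheme.Opens.fromSpecStalkOfMem_ι_assoc,
        Scheme.SpecMap_stalkMap_fromSpecStalk]
    rw [CommRingCat.ofHom_hom, ← Category.assoc, e1, Category.assoc, hHσ, Scheme.Opens.fromSpecStalkOfMem_ι_assoc,
      ← Category.assoc]
    refine congrArg (· ≫ p) ?_
    show _ = Spec.map (stalkConst f (σ y) ≫ σ.stalkMap y ≫ D.presheaf.stalkSpecializes hgD)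
    rw [Spec.map_comp, Spec.map_comp, spec_stalkConst, Category.assoc,
      Scheme.SpecMap_stalkMap_fromSpecStalk_assoc, Scheme.SpecMap_stalkSpecializes_fromSpecStalk_assoc]

end Scheme

end Groth.Agent.RatRes42
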